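import Cfsg.Agent.Lib.Perm.Trans.OrthExt.Spread

/-!
# Quadratic extensions in dimension eight of minus type

Over the extension the space has dimension four and Witt index one: the orthogonal of a singular vector is
anisotropic modulo its line.  An element fixing a hyperplane of the line and moving the line can be taken with
image not orthogonal to it; then a commutator of root elements, trivial on the quotient of the orthogonal of the
fixed vector, is an Eichler transformation of it which spreads over the line.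
-/

set_option autoImplicit false
set_option linter.all false

namespace CfsgLib.Perm.Trans.OrthExt

open scoped Matrix
open Matrix Module Cfsg.Geo CfsgLib.Perm.Asch CfsgLib.Perm.Trans CfsgLib.Perm.Trans.Quad
open CfsgLib.Perm.Trans.Symp.Ext (tr trDual trDual_apply tr_ext tr_smul_one exists_tr_separate)

variable {ι : Type} [Fintype ι] [DecidableEq ι] {F : Type*} [Field F] [Fintype F]
variable {E : Type*} [Field E] [Algebra F E] [FiniteDimensional F E]
variable [Module E (ι → F)] [IsScalarTower F E (ι → F)]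
variable {Q : (ι → F) → F}

local notation "pol" => QuadraticMap.polar
local notation:75 g " ⋆ " x:75 => (Units.val g : Matrix ι ι F) *ᵥ x

variable {M : Subgroup (GL ι F)} (S : OData E Q M)
include S

/-- the orthogonal of a singular vector is anisotropic modulo its line -/
def AnisoPerp : Prop :=
  ∀ v x : ι → F, Bf S v v = 0 → v ≠ 0 → Bf S x v = 0 → Bf S x x = 0 → x ∈ Submodule.span E ({v} : Set (ι → F))

/-- no totally singular half gives anisotropic orthogonals -/
theorem anisoPerp_of_minus (hr : finrank F E = 2) (hn : Fintype.card ι = 8) (hminus : ¬ IsPlusTypeOn Q ⊤) :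
    AnisoPerp S := by
  intro v x hv hv0 hxv hxx
  by_contra hx
  have hvx : Bf S v x = 0 := by rw [Bf_comm S]; exact hxv
  refine hminus ⟨(Submodule.span E ({v, x} : Set (ι → F))).restrictScalars F, le_top, fun w hw => ?_, ?_⟩
  · obtain ⟨p, q, rfl⟩ := Submodule.mem_span_pair.1 hw
    have h := Q_eq S (p • v + q • x)
    simp only [Bf_add_left, Bf_add_right, Bf_smul_left, Bf_smul_right, hv, hxx, hxv, hvx, mul_zero, add_zero,
      map_zero] at h
    exact (mul_eq_zero.1 h).resolve_left S.two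
  · have hli : LinearIndependent E ![v, x] := (LinearIndependent.pair_iff' hv0).2 fun a h =>
      hx (Submodule.mem_span_singleton.2 ⟨a, h⟩)
    have h1 : finrank E (Submodule.span E ({v, x} : Set (ι → F))) = 2 := by
      rw [← Matrix.range_cons_cons_empty v x ![], finrank_span_eq_card hli, Fintype.card_fin]
    rw [show finrank F ((Submodule.span E ({v, x} : Set (ι → F))).restrictScalars F) =
      finrank F (Submodule.span E ({v, x} : Set (ι → F))) from rfl, ← finrank_mul_finrank F E, hr, h1, finrank_top,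
      Module.finrank_fintype_fun_eq_card, hn]

/-- the kernel of a nonzero trace functional of a quadratic extension is a line -/
theorem scalar_of_tr (hr : finrank F E = 2) {γ p : E} (hγ0 : γ ≠ 0) (hγ : tr F E γ = 0) (hp : tr F E (p * γ) = 0) :
    ∃ t : F, p = algebraMap F E t := by
  let Kp : Submodule F E := LinearMap.ker ((tr F E).comp (LinearMap.mulRight F γ))
  have h1 : finrank F Kp < finrank F E := Submodule.finrank_lt fun htop => by
    have h2 : γ⁻¹ ∈ Kp := htop ▸ Submodule.mem_top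
    have h3 : tr F E (γ⁻¹ * γ) = 0 := h2
    rw [inv_mul_cancel₀ hγ0, ← one_smul F (1 : E), tr_smul_one] at h3
    exact one_ne_zero h3
  have h1K : (1 : E) ∈ Kp := show tr F E (1 * γ) = 0 by rw [one_mul, hγ]
  have h3 : Submodule.span F ({1} : Set E) = Kp := Submodule.eq_of_le_of_finrank_le
    ((Submodule.span_singleton_le_iff_mem _ _).2 h1K) (by rw [finrank_span_singleton (one_ne_zero (α := E))]; omega)
  obtain ⟨t, ht⟩ := Submodule.mem_span_singleton.1 (h3.symm ▸ (show p ∈ Kp from hp) : p ∈ Submodule.span F {(1 : E)})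
  exact ⟨t, by rw [← ht, Algebra.smul_def, mul_one]⟩

/-- elements whose square ratio is fixed by the automorphism are squares -/
theorem square_of_scalar_square (hr : finrank F E = 2) {e k : E} (he : (1 - e) * k = 1 + e) (he0 : e ≠ 0) {t : F}
    (ht : k * k = algebraMap F E t) : IsSquare e := by
  classical
  haveI : Finite E := Module.finite_of_finite F
  haveI : Fintype E := Fintype.ofFinite E
  have h2E : ringChar E ≠ 2 := fun h => two_E S (by
    have := ringChar.Nat.cast_ringChar (R := E)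
    rw [h] at this
    exact_mod_cast this)
  have h2F : ringChar F ≠ 2 := fun h => S.two (by
    have := ringChar.Nat.cast_ringChar (R := F)
    rw [h] at this
    exact_mod_cast this)
  rw [FiniteField.isSquare_iff h2E he0, Module.card_eq_pow_finrank (K := F), hr]
  obtain ⟨φ, hφdef⟩ : ∃ φ, φ = FiniteField.frobeniusAlgHom F E := ⟨_, rfl⟩
  have hφ : ∀ x, φ x = x ^ Fintype.card F := fun x => by rw [hφdef]; rfl
  have hk : φ k * φ k = k * k := by rw [← map_mul, ht, AlgHom.commutes]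
  have hφe : (1 - φ e) * φ k = 1 + φ e := by
    have := congrArg φ he
    simpa using this
  obtain ⟨j, hj⟩ : Odd (Fintype.card F) := Nat.odd_iff.2 (FiniteField.odd_card_of_char_ne_two h2F)
  have hhalf : (Fintype.card F) ^ 2 / 2 = 2 * (j * (j + 1)) := by
    rw [hj, show (2 * j + 1) ^ 2 = 1 + 2 * (2 * (j * (j + 1))) by ring, Nat.add_mul_div_left _ _ two_pos]
    norm_num
  have hk1 : k + 1 ≠ 0 := fun h => two_E S (by linear_combination (1 - e) * h - he)
  have hek : e = (k - 1) / (k + 1) := by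
    rw [eq_div_iff hk1]
    linear_combination -he
  rcases mul_self_eq_mul_self_iff.1 hk with h | h
  · -- fixed
    rw [h] at hφe
    have hfix : φ e = e := by
      rw [hek] at hφe ⊢
      have h2 : φ ((k - 1) / (k + 1)) * (k + 1) = k - 1 := by linear_combination -hφe
      rw [eq_div_iff hk1, h2]
    have h1 : e ^ (2 * j) = 1 := by
      have h3 : e ^ (2 * j + 1) = e := by rw [← hj, ← hφ, hfix]
      rwa [pow_succ, mul_eq_right₀ he0] at h3
    rw [hhalf, ← mul_assoc, pow_mul, h1, one_pow]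
  · -- inverted
    rw [h] at hφe
    have hinv : φ e * e = 1 := by
      have h2 : φ e * (k - 1) = k + 1 := by linear_combination hφe
      rw [hek] at h2 ⊢
      rw [mul_div_assoc', h2, div_self hk1]
    have h1 : e ^ (2 * j + 2) = 1 := by
      rw [show 2 * j + 2 = 2 * j + 1 + 1 by omega, pow_succ, ← hj, ← hφ, hinv]
    rw [hhalf, show 2 * (j * (j + 1)) = (2 * j + 2) * j by ring, pow_mul, h1, one_pow]

/-- in dimension four of index one the image of the line can be made non-orthogonal to it -/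
theorem convert_aniso (hr : finrank F E = 2) (h4 : 4 ≤ finrank E (ι → F)) (hA : AnisoPerp S) {g : GL ι F}
    {v : ι → F} {ρ : E} (H : Hyp S g v ρ) : ∃ g', Hyp S g' v ρ ∧ Bf S (g' ⋆ (ρ⁻¹ • v)) v ≠ 0 := by
  haveI := finE S
  have hv := H.vv
  obtain ⟨y, hy⟩ : ∃ y, y = g ⋆ (ρ⁻¹ • v) := ⟨_, rfl⟩
  by_cases hyv : Bf S y v = 0
  swap
  · exact ⟨g, H, hy ▸ hyv⟩
  have hy1 : y ∉ Submodule.span E ({v} : Set (ι → F)) := fun hy1 => by
    obtain ⟨p, hp⟩ := H.moves
    refine hp ?_
    rw [show p • v = (p - tr F E (p * ρ) • ρ⁻¹) • v + tr F E (p * ρ) • ρ⁻¹ • v by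
      rw [sub_smul, smul_assoc, sub_add_cancel], mulVec_add, mulVec_smul, H.fix _ (tr_split H.ρ0 p), ← hy]
    exact Submodule.add_mem _ (Submodule.smul_mem _ _ (Submodule.mem_span_singleton_self v))
      (Submodule.smul_of_tower_mem _ _ hy1)
  obtain ⟨γ, hγ⟩ : ∃ γ, γ = Bf S y y := ⟨_, rfl⟩
  have hγ0 : γ ≠ 0 := fun h => hy1 (hA v y hv H.v0 hyv (hγ ▸ h))
  have hγt : tr F E γ = 0 := by rw [hγ, ← pol_eq S, hy, iso_pol (le_iso S H.mem), pol_line S hv]
  obtain ⟨w, hw, hwn⟩ : ∃ w ∈ LinearMap.ker (Bl S v) ⊓ LinearMap.ker (Bl S y),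
      w ∉ Submodule.span E ({v} : Set (ι → F)) := by
    by_contra hc
    push Not at hc
    have h1 := Submodule.finrank_mono (show LinearMap.ker (Bl S v) ⊓ LinearMap.ker (Bl S y) ≤
      Submodule.span E ({v} : Set (ι → F)) from hc)
    have h2 := finrank_pperp S v y
    rw [pperp] at h2
    rw [finrank_span_singleton H.v0] at h1
    omega
  have hwv : Bf S w v = 0 := hw.1
  have hwy : Bf S w y = 0 := hw.2
  have hyw : Bf S y w = 0 := by rw [Bf_comm S]; exact hwy
  have hvy : Bf S v y = 0 := by rw [Bf_comm S]; exact hyv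
  have hvw : Bf S v w = 0 := by rw [Bf_comm S]; exact hwv
  obtain ⟨δ, hδ⟩ : ∃ δ, δ = Bf S w w := ⟨_, rfl⟩
  have hδ0 : δ ≠ 0 := fun h => hwn (hA v w hv H.v0 hwv (hδ ▸ h))
  have hns : ∀ s : E, s * s ≠ -(γ * δ) := fun s hs => by
    have h1 := hA v (s • y + γ • w) hv H.v0 (by rw [Bf_add_left, Bf_smul_left, Bf_smul_left, hyv, hwv]; ring) (by
      simp only [Bf_add_left, Bf_add_right, Bf_smul_left, Bf_smul_right, hyw, hwy, ← hγ, ← hδ]
      linear_combination γ * hs)
    obtain ⟨q, hq⟩ := Submodule.mem_span_singleton.1 h1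
    have h3 := congrArg (fun z => Bf S z y) hq
    simp only [Bf_add_left, Bf_smul_left, hwy, hvy, ← hγ, mul_zero, add_zero] at h3
    have hs0 : s = 0 := (mul_eq_zero.1 h3.symm).resolve_right hγ0
    rw [hs0] at hs
    exact mul_ne_zero hγ0 hδ0 (by linear_combination hs)
  have hsum0 : γ + δ ≠ 0 := fun h => hns γ (by linear_combination γ * h)
  obtain ⟨a, ha⟩ : ∃ a, a = y + w := ⟨_, rfl⟩
  have haa : Bf S a a = γ + δ := by
    rw [ha, Bf_add_left, Bf_add_right, Bf_add_right, hyw, hwy, ← hγ, ← hδ]; ring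
  let R : (ι → F) → ((ι → F) →ₗ[E] (ι → F)) := fun a =>
    LinearMap.id - (2 / Bf S a a) • (Bl S a).smulRight a
  have hR : ∀ a x, R a x = x - (2 / Bf S a a * Bf S x a) • a := fun a x => by
    show x - (2 / Bf S a a) • (Bf S x a • a) = _
    rw [smul_smul]
  have hRi : ∀ a, Bf S a a ≠ 0 → ∀ x, Bf S (R a x) (R a x) = Bf S x x := fun a ha x => by
    simp only [hR, Bf_sub_left, Bf_sub_right, Bf_smul_left, Bf_smul_right, Bf_comm S a x]
    field_simp
    ring
  obtain ⟨T, hT, hTx⟩ := exists_sq_mem S ((R a).comp (R y)) fun x => by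
    rw [LinearMap.comp_apply, hRi _ (by rw [haa]; exact hsum0), hRi _ (hγ ▸ hγ0)]
  have hLv : ((R a).comp (R y)) v = v := by
    rw [LinearMap.comp_apply, hR y, hvy, mul_zero, zero_smul, sub_zero, hR, ha, Bf_add_right S v y w, hvy, hvw,
      add_zero, mul_zero, zero_smul, sub_zero]
  have hTv : ∀ p : E, T ⋆ (p • v) = p • v := fun p => by rw [hTx, map_smul, hLv, map_smul, hLv]
  obtain ⟨k, hk⟩ : ∃ k, k = (γ - δ) / (γ + δ) := ⟨_, rfl⟩
  have hLy : ((R a).comp (R y)) y = k • y + (2 * γ / (γ + δ)) • w := by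
    rw [LinearMap.comp_apply, hR y, ← hγ, div_mul_cancel₀ _ hγ0, hR, haa, Bf_sub_left, Bf_smul_left, ha,
      Bf_add_right, hyw, ← hγ, hk]
    match_scalars <;> field_simp <;> ring
  have hLw : ((R a).comp (R y)) w = (-(2 * δ / (γ + δ))) • y + k • w := by
    rw [LinearMap.comp_apply, hR y, hwy, mul_zero, zero_smul, sub_zero, hR, haa, ha, Bf_add_right, hwy, ← hδ, hk]
    match_scalars <;> field_simp <;> ring
  have hne : pol Q ((g⁻¹ * T * g) ⋆ (ρ⁻¹ • v)) (ρ⁻¹ • v) ≠ 0 := by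
    rw [← iso_pol (le_iso S H.mem), gl_mul_mulVec, gl_mul_mulVec, gl_mulVec_inv, ← hy, hTx, pol_eq S, hLy,
      map_add, map_smul, map_smul, hLy, hLw]
    simp only [Bf_add_left, Bf_smul_left, hwy, ← hγ, mul_zero, add_zero]
    intro h
    have e1 : k * (k * γ) + 2 * γ / (γ + δ) * (-(2 * δ / (γ + δ)) * γ) = (2 : F) • (k * k * γ) - γ := by
      rw [Algebra.smul_def, map_ofNat, hk]
      field_simp
      ring
    rw [e1, map_sub, map_smul, hγt, sub_zero, smul_eq_mul] at h
    obtain ⟨t, ht⟩ := scalar_of_tr S hr hγ0 hγt ((mul_eq_zero.1 h).resolve_left S.two)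
    obtain ⟨s, hs⟩ := square_of_scalar_square S hr (e := -(δ / γ)) (k := k)
      (by rw [hk]; field_simp; ring) (neg_ne_zero.2 (div_ne_zero hδ0 hγ0)) ht
    exact hns (s * γ) (by rw [mul_mul_mul_comm, ← hs]; field_simp)
  refine ⟨g⁻¹ * T * g, ⟨M.mul_mem (M.mul_mem (M.inv_mem H.mem) hT) H.mem, H.v0, hv, H.ρ0, H.tr_ρ, fun p hp => ?_,
    ⟨ρ⁻¹, fun hmem => ?_⟩⟩, fun h0 => hne ?_⟩
  · rw [gl_mul_mulVec, gl_mul_mulVec, H.fix p hp, hTv]
    nth_rewrite 1 [← H.fix p hp]
    rw [gl_inv_mulVec]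
  · obtain ⟨q, hq⟩ := Submodule.mem_span_singleton.1 hmem
    exact hne (by rw [← hq]; exact pol_line S hv q _)
  · rw [pol_smul_right S, h0, mul_zero, map_zero]

/-- an element of the stabiliser of a singular vector trivial on the quotient is an Eichler transformation -/
theorem ein_of_trivial {v z : ι → F} (hv0 : v ≠ 0) (hQv : Q v = 0) (hzv : pol Q z v = 0) {C : GL ι F} (hC : C ∈ M)
    (hCv : C ⋆ v = v) (hCx : ∀ x, pol Q x v = 0 → ∃ φ : F, C ⋆ x = x + φ • v) (hCz : C ⋆ z ≠ z) :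
    ∃ w, pol Q v w = 0 ∧ pol Q z w ≠ 0 ∧ EIn Q M v w := by
  obtain ⟨f, -, hQf, hvf⟩ := exists_qpartner S.form (ndOn_top S.form) (u := v) Submodule.mem_top hv0 hQv
  have hCi := le_iso S hC
  obtain ⟨w, hw⟩ : ∃ w, w = C ⋆ f - f := ⟨_, rfl⟩
  have hCf : C ⋆ f = f + w := by rw [hw, add_sub_cancel]
  have hvw : pol Q v w = 0 := by
    rw [hw, psub_right S.form]
    nth_rewrite 1 [← hCv]
    rw [iso_pol hCi, sub_self]
  have hperp : ∀ x, pol Q x v = 0 → C ⋆ x = x - pol Q x w • v := fun x hx => by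
    obtain ⟨φ, hφ⟩ := hCx x hx
    have h1 := iso_pol hCi x f
    rw [hφ, hCf, padd_left S.form, padd_right S.form, padd_right S.form, psmul_left S.form, psmul_left S.form,
      hvf, hvw, mul_one, mul_zero, add_zero] at h1
    rw [hφ, show φ = -pol Q x w by linear_combination h1, neg_smul, ← sub_eq_add_neg]
  have hQw : Q w + pol Q f w = 0 := by
    have h1 := mem_iso.1 hCi f
    rw [hCf, qadd S.form, hQf] at h1
    linear_combination h1
  obtain ⟨k, hk, hkE⟩ := exists_E S.form hQv hvw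
  refine ⟨w, hvw, fun h => hCz (by rw [hperp z hzv, h, zero_smul, sub_zero]), k, ?_, hkE⟩
  rw [show k = C from gl_ext_vec fun x => ?_]
  · exact hC
  obtain ⟨u, hu⟩ : ∃ u, u = x - pol Q x v • f := ⟨_, rfl⟩
  have huv : pol Q u v = 0 := by rw [hu, psub_left S.form, psmul_left S.form, pcomm f v, hvf, mul_one, sub_self]
  have hx : x = u + pol Q x v • f := by rw [hu, sub_add_cancel]
  rw [hx, mulVec_add, mulVec_add, mulVec_smul, mulVec_smul, hperp u huv, hkE u, hkE f, huv, hCf, pcomm f v, hvf,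
    show pol Q f w = -Q w by linear_combination hQw]
  module

/-- long root elements of the line from an image not orthogonal to it -/
theorem roots_aniso (hr : finrank F E = 2) (hn : 8 ≤ Fintype.card ι) (hA : AnisoPerp S) {g : GL ι F} {v : ι → F}
    {ρ : E} (H : Hyp S g v ρ) (hyv : Bf S (g ⋆ (ρ⁻¹ • v)) v ≠ 0) : ∀ η : E, EIn Q M v (η • v) := by
  have hv := H.vv
  have hρ := H.ρ0
  have h2 := two_E S
  have hfix : FixK v ρ g := H.fix
  obtain ⟨y, hy⟩ : ∃ y, y = g ⋆ (ρ⁻¹ • v) := ⟨_, rfl⟩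
  obtain ⟨z, hz⟩ : ∃ z, z = ρ⁻¹ • v := ⟨_, rfl⟩
  rw [← hy] at hyv
  have hQv : Q v = 0 := by have := Q_sing S hv 1; rwa [one_smul] at this
  have hQy : Q y = 0 := by rw [hy, mem_iso.1 (le_iso S H.mem), Q_sing S hv]
  have h1ρ : tr F E (1 * ρ) = 0 := by rw [one_mul]; exact H.tr_ρ
  have hgv : g ⋆ v = v := by have := H.fix 1 h1ρ; rwa [one_smul] at this
  have hsca : ∀ p : E, tr F E (p * ρ) = 0 → ∃ t : F, p • v = t • v := fun p hp => by
    obtain ⟨t, rfl⟩ := scalar_of_tr S hr hρ H.tr_ρ hp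
    exact ⟨t, algebraMap_smul E t v⟩
  have hper : ∀ x, pol Q x v = 0 → Per Q v ρ x := fun x hx p hp => by
    obtain ⟨t, ht⟩ := hsca p hp
    rw [ht, psmul_right S.form, hx, mul_zero]
  have hPy : Per Q v ρ y := fun p hp => by rw [hy, ← hfix p hp, iso_pol (le_iso S H.mem), pol_line S hv]
  have hπ : pol Q y z ≠ 0 := fun h => hyv (by rw [per_Bf S hρ hPy, ← hz, h, zero_smul])
  obtain ⟨B₁, hB₁⟩ : ∃ B₁, B₁ = (Submodule.span E ({v} : Set (ι → F))).restrictScalars F := ⟨_, rfl⟩
  obtain ⟨N, hN⟩ : ∃ N, N = qperp S.form (B₁ ⊔ Submodule.span F {y}) := ⟨_, rfl⟩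
  have hdB : finrank F B₁ ≤ 2 := hr ▸ hB₁ ▸ finrank_line_le S v
  have hdim : Fintype.card ι ≤ finrank F N + 3 := by
    have h1 := finrank_qperp S.form (B₁ ⊔ Submodule.span F {y})
    have h2 := Submodule.finrank_add_le_finrank_add_finrank B₁ (Submodule.span F {y})
    have h3 : finrank F (Submodule.span F ({y} : Set (ι → F))) ≤ 1 := by
      have := finrank_span_le_card (R := F) ({y} : Set (ι → F))
      simpa using this
    rw [← hN] at h1
    omega
  have hrad : finrank F ↥(N ⊓ qperp S.form N) ≤ 1 := by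
    have hv0 := H.v0
    refine (Submodule.finrank_mono (show N ⊓ qperp S.form N ≤ Submodule.span F {v} from fun x hx => ?_)).trans
      (by rw [finrank_span_singleton hv0])
    have hx2 : x ∈ qperp S.form (qperp S.form (B₁ ⊔ Submodule.span F {y})) := hN ▸ hx.2
    have hx1 : x ∈ qperp S.form (B₁ ⊔ Submodule.span F {y}) := hN ▸ hx.1
    have hBB : qperp S.form (qperp S.form (B₁ ⊔ Submodule.span F {y})) = B₁ ⊔ Submodule.span F {y} := by
      refine (Submodule.eq_of_le_of_finrank_le (fun a ha c hc => by rw [pcomm]; exact hc a ha) ?_).symm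
      have e1 := finrank_qperp_add S.form (B₁ ⊔ Submodule.span F {y})
      have e2 := finrank_qperp_add S.form (qperp S.form (B₁ ⊔ Submodule.span F {y}))
      omega
    rw [hBB] at hx2
    obtain ⟨b, hb, c, hc, rfl⟩ := Submodule.mem_sup.1 hx2
    obtain ⟨s, rfl⟩ := Submodule.mem_span_singleton.1 hc
    rw [hB₁] at hb
    obtain ⟨p, rfl⟩ := Submodule.mem_span_singleton.1 hb
    have hBm : ∀ q : E, q • v ∈ B₁ ⊔ Submodule.span F {y} := fun q => Submodule.mem_sup_left
      (hB₁ ▸ Submodule.smul_mem _ _ (Submodule.mem_span_singleton_self v))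
    have h0 := hx1 z (hz ▸ hBm ρ⁻¹)
    rw [padd_left S.form, psmul_left S.form, hz, pol_line S hv, zero_add, mul_eq_zero] at h0
    have hs : s = 0 := h0.resolve_right (hz ▸ hπ)
    have h4 := hx1 y (Submodule.mem_sup_right (Submodule.mem_span_singleton_self y))
    rw [hs, zero_smul, add_zero, pcomm, pol_smul_right S, per_Bf S hρ hPy, ← hz, mul_smul_comm, map_smul,
      smul_eq_mul] at h4
    obtain ⟨t, ht⟩ := hsca p ((mul_eq_zero.1 h4).resolve_left hπ)
    rw [hs, zero_smul, add_zero, ht]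
    exact Submodule.smul_mem _ _ (Submodule.mem_span_singleton_self v)
  obtain ⟨b, hb, hQb, hbn⟩ := exists_singular_avoid_radical S (W := N) (B := B₁) (by omega) (by omega)
  rw [hN] at hb
  have hbv' : ∀ p : E, pol Q b (p • v) = 0 := fun p => hb _ (Submodule.mem_sup_left
    (hB₁ ▸ Submodule.smul_mem _ _ (Submodule.mem_span_singleton_self v)))
  have hby : pol Q b y = 0 := hb _ (Submodule.mem_sup_right (Submodule.mem_span_singleton_self y))
  have hbv : Bf S b v = 0 := perp_of_pol S hbv'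
  have hbz : pol Q b z = 0 := hz ▸ hbv' _
  have hbb : Bf S b b ≠ 0 := fun h => hbn (hB₁ ▸ hA v b hv H.v0 hbv h)
  have hbg : ∀ p : E, pol Q b (g ⋆ (p • v)) = 0 := fun p => by
    rw [show g ⋆ (p • v) = (p - tr F E (p * ρ) • ρ⁻¹) • v + tr F E (p * ρ) • y by
      rw [hy, ← mulVec_smul, ← hfix _ (tr_split hρ p), ← mulVec_add, ← smul_assoc, ← add_smul, sub_add_cancel],
      padd_right S.form, psmul_right S.form, hbv', hby, mul_zero, add_zero]
  obtain ⟨U, hU, hUK, hUx⟩ := exists_S S H.mem hv hρ hfix hbg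
  simp only [← hy, hQb, zero_mul, add_zero] at hUx
  obtain ⟨a, ha⟩ : ∃ a, a = ρ⁻¹ • b := ⟨_, rfl⟩
  have hav : Bf S a v = 0 := by rw [ha, Bf_smul_left, hbv, mul_zero]
  obtain ⟨T, hT, hTa⟩ := exists_T S hv hav
  have hTK : FixK v ρ T := fun p _ => hTa.fix_line hv hav p
  have hTx : ∀ x, Per Q v ρ x → T ⋆ x - (x + pol Q x z • b - pol Q x b • z) ∈ kv v ρ := fun x hx => by
    obtain ⟨η, hη⟩ : ∃ η, η = Bf S x a + Bf S a a / 2 * Bf S x v := ⟨_, rfl⟩
    have hxv : Bf S x v = pol Q x z • ρ := hz ▸ per_Bf S hρ hx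
    have htr : tr F E (η * ρ) = pol Q x b := by
      have e1 : η * ρ = Bf S x b + (pol Q x z * (2 : F)⁻¹) • Bf S b b := by
        rw [hη, hxv, ha, Bf_smul_right, Bf_smul_left, Bf_smul_right, Algebra.smul_def, Algebra.smul_def, map_mul,
          map_inv₀, map_ofNat]
        field_simp
      rw [e1, map_add, map_smul, ← pol_eq S, ← pol_eq S, pself S.form, hQb, mul_zero, smul_zero, add_zero]
    rw [hTa, ← hη, hxv, ha, smul_assoc, smul_smul ρ ρ⁻¹, mul_inv_cancel₀ hρ, one_smul]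
    have h1 := line_mod hρ v η
    rw [htr, ← hz] at h1
    rw [show x + pol Q x z • b - η • v - (x + pol Q x z • b - pol Q x b • z) = -(η • v - pol Q x b • z) by abel]
    exact Submodule.neg_mem _ h1
  obtain ⟨π, hπd⟩ : ∃ π, π = pol Q y z := ⟨_, rfl⟩
  rw [← hπd] at hπ
  have hzy : pol Q z y = π := by rw [pcomm, hπd]
  have hzb : pol Q z b = 0 := by rw [pcomm]; exact hbz
  have hyb : pol Q y b = 0 := by rw [pcomm]; exact hby
  have hzz : pol Q z z = 0 := by rw [hz]; exact pol_line S hv _ _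
  have hyy : pol Q y y = 0 := by rw [pself S.form, hQy, mul_zero]
  have hbb' : pol Q b b = 0 := by rw [pself S.form, hQb, mul_zero]
  have hPz : Per Q v ρ z := fun p _ => hz ▸ pol_line S hv _ _
  have hPb : Per Q v ρ b := fun p _ => hbv' p
  have padd : ∀ c d : ι → F, Per Q v ρ c → Per Q v ρ d → Per Q v ρ (c + d) := fun c d hc hd p hp => by
    rw [padd_left S.form, hc p hp, hd p hp, add_zero]
  have psub : ∀ c d : ι → F, Per Q v ρ c → Per Q v ρ d → Per Q v ρ (c - d) := fun c d hc hd p hp => by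
    rw [psub_left S.form, hc p hp, hd p hp, sub_zero]
  have psm : ∀ (t : F) (c : ι → F), Per Q v ρ c → Per Q v ρ (t • c) := fun t c hc p hp => by
    rw [psmul_left S.form, hc p hp, mul_zero]
  -- the two products agree on the quotient
  have hcomm : ∀ x, Per Q v ρ x → (T * U) ⋆ x - (U * T) ⋆ x ∈ kv v ρ := fun x hx => by
    obtain ⟨x₁, hx₁⟩ : ∃ x₁, x₁ = x + pol Q x y • b - pol Q x b • y := ⟨_, rfl⟩
    obtain ⟨x₂, hx₂⟩ : ∃ x₂, x₂ = x + pol Q x z • b - pol Q x b • z := ⟨_, rfl⟩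
    have e1 := hTK.trans (hx₁ ▸ hUx x hx)
      (hTx x₁ (hx₁ ▸ psub _ _ (padd _ _ hx (psm _ _ hPb)) (psm _ _ hPy)))
    have e2 := hUK.trans (hx₂ ▸ hTx x hx)
      (hUx x₂ (hx₂ ▸ psub _ _ (padd _ _ hx (psm _ _ hPb)) (psm _ _ hPz)))
    convert Submodule.sub_mem _ e1 e2 using 1
    rw [hx₁, hx₂]
    simp only [padd_left S.form, psub_left S.form, psmul_left S.form, hbb', hbz, hby, hyb, hzb, hyy, hzz, hzy,
      ← hπd]
    module
  obtain ⟨C, hCdef⟩ : ∃ C, C = T * U * (U * T)⁻¹ := ⟨_, rfl⟩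
  have hCM : C ∈ M := hCdef ▸ M.mul_mem (M.mul_mem hT hU) (M.inv_mem (M.mul_mem hU hT))
  have hkv : ∀ x ∈ kv v ρ, ∃ φ : F, x = φ • v := fun x hx => by
    obtain ⟨p, hp, rfl⟩ := mem_kv.1 hx
    exact hsca p hp
  have hTv : T ⋆ v = v := by have := hTK 1 h1ρ; rwa [one_smul] at this
  have hUv : U ⋆ v = v := by have := hUK 1 h1ρ; rwa [one_smul] at this
  have hUTv : (U * T)⁻¹ ⋆ v = v := by
    conv_lhs => rw [← show (U * T) ⋆ v = v by rw [gl_mul_mulVec, hTv, hUv]]
    rw [gl_inv_mulVec]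
  have hCv : C ⋆ v = v := by rw [hCdef, gl_mul_mulVec, hUTv, gl_mul_mulVec, hUv, hTv]
  have hCx : ∀ x, pol Q x v = 0 → ∃ φ : F, C ⋆ x = x + φ • v := fun x hx => by
    obtain ⟨x', hx'⟩ : ∃ x', x' = (U * T)⁻¹ ⋆ x := ⟨_, rfl⟩
    have hxx' : (U * T) ⋆ x' = x := by rw [hx', gl_mulVec_inv]
    have hx'v : pol Q x' v = 0 := by
      rw [← iso_pol (le_iso S (M.mul_mem hU hT)), hxx', gl_mul_mulVec, hTv, hUv, hx]
    obtain ⟨φ, hφ⟩ := hkv _ (hcomm x' (hper x' hx'v))
    refine ⟨φ, ?_⟩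
    rw [hCdef, gl_mul_mulVec, ← hx', ← hφ, hxx']
    abel
  have hCz : C ⋆ z ≠ z := fun h => by
    obtain ⟨x, hx⟩ : ∃ x, x = U⁻¹ ⋆ z := ⟨_, rfl⟩
    have hTz : T ⋆ z = z := by rw [hz]; exact hTa.fix_line hv hav _
    have hTx' : T ⋆ x = x := by
      have h1 : (T * U) ⋆ (T⁻¹ ⋆ x) = z := by
        rw [hx, ← gl_mul_mulVec T⁻¹ U⁻¹, ← _root_.mul_inv_rev, ← gl_mul_mulVec, ← hCdef, h]
      have h3 : T⁻¹ ⋆ x = x := by
        rw [gl_mul_mulVec] at h1
        have h4 : U ⋆ (T⁻¹ ⋆ x) = z := by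
          have h5 := congrArg (fun w => T⁻¹ ⋆ w) h1
          simp only [gl_inv_mulVec] at h5
          rw [h5]
          conv_lhs => rw [← hTz, gl_inv_mulVec]
        calc T⁻¹ ⋆ x = U⁻¹ ⋆ (U ⋆ (T⁻¹ ⋆ x)) := (gl_inv_mulVec U _).symm
          _ = x := by rw [h4, ← hx]
      conv_lhs => rw [← h3, gl_mulVec_inv]
    -- `x` is `z` shifted by a multiple of `b`
    have hxv : pol Q x v = 0 := by
      rw [← iso_pol (le_iso S hU), hx, gl_mulVec_inv, hUv, hz]
      have := pol_line S hv ρ⁻¹ 1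
      rwa [one_smul] at this
    obtain ⟨k, hk⟩ := hkv _ (hUx x (hper x hxv))
    have hUx' : U ⋆ x = z := by rw [hx, gl_mulVec_inv]
    rw [hUx', sub_eq_iff_eq_add] at hk
    have e1 : pol Q x z = 0 := by
      conv_lhs => rw [← hTx', ← hTz, iso_pol (le_iso S hT)]
      have h7 := congrArg (fun w => Bf S w v) hTx'
      simp only [hTa x, Bf_sub_left, Bf_add_left, Bf_smul_left, hav, hv, mul_zero, add_zero, sub_zero] at h7
      have h8 := congrArg (fun w => pol Q w z) hk
      simp only [padd_left S.form, psub_left S.form, psmul_left S.form, hzz, hbz, ← hπd,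
        show pol Q v z = 0 by
          have := pol_line S hv 1 ρ⁻¹
          rwa [one_smul, ← hz] at this, mul_zero, add_zero, zero_add] at h8
      have h9 := congrArg (fun w => pol Q w b) hk
      simp only [padd_left S.form, psub_left S.form, psmul_left S.form, hzb, hbb', hyb,
        show pol Q v b = 0 by
          have := hbv' 1
          rwa [one_smul, pcomm] at this, mul_zero, add_zero, zero_add, sub_zero] at h9
      rw [← h9, zero_mul, sub_zero] at h8
      exact h8.symm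
    have e3 : pol Q x y = π := by
      have h8 := congrArg (fun w => pol Q w y) hk
      have hvy : pol Q v y = 0 := by
        have h11 := iso_pol (le_iso S H.mem) v (ρ⁻¹ • v)
        rw [hgv, ← hy] at h11
        rw [h11]
        have := pol_line S hv 1 ρ⁻¹
        rwa [one_smul] at this
      simp only [padd_left S.form, psub_left S.form, psmul_left S.form, hzy, hby, hyy, hvy, mul_zero, add_zero,
        zero_add, sub_zero] at h8
      exact h8.symm
    have hBxv : Bf S x v = 0 := by rw [per_Bf S hρ (hper x hxv), ← hz, e1, zero_smul]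
    have h6 : Bf S x a = 0 := by
      have h := hTx'
      rw [hTa.perp hBxv, sub_eq_self, smul_eq_zero] at h
      exact h.resolve_right H.v0
    have h10 := congrArg (fun w => Bf S w b) hk
    have hvb : Bf S v b = 0 := by rw [Bf_comm S]; exact hbv
    have hzb' : Bf S z b = 0 := by rw [hz, Bf_smul_left, hvb, mul_zero]
    have e4 : pol Q x b = 0 := by
      rw [ha, Bf_smul_right, mul_eq_zero] at h6
      rw [pol_eq S, h6.resolve_left (inv_ne_zero hρ), map_zero]
    rw [ha, Bf_smul_right, mul_eq_zero] at h6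
    simp only [Bf_add_left, Bf_sub_left, Bf_fsmul_left, hzb', hvb, e3, e4, h6.resolve_left (inv_ne_zero hρ),
      zero_smul, smul_zero, add_zero, zero_add, sub_zero] at h10
    exact smul_ne_zero hπ hbb h10.symm
  obtain ⟨w, hvw, hzw, hw⟩ := ein_of_trivial S H.v0 hQv
    (by rw [hz]; have := pol_line S hv ρ⁻¹ 1; rwa [one_smul] at this) hCM hCv hCx hCz
  -- the vectors of the line
  have hAdd : ∀ c d, pol Q v c = 0 → pol Q v d = 0 → EIn Q M v c → EIn Q M v d → EIn Q M v (c + d) :=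
    fun c d hc hd => EIn.add S.form hQv hc hd
  have hNeg : ∀ c, pol Q v c = 0 → EIn Q M v c → EIn Q M v (-c) := fun c hc ⟨m, hm, hmE⟩ => by
    have hc' : pol Q v (-c) = 0 := by rw [pneg_right S.form, hc, neg_zero]
    obtain ⟨k, -, hkE⟩ := exists_E S.form hQv hc'
    have h1 := hkE.mul S.form hQv hc' hc hmE
    rw [neg_add_cancel, ← zero_smul F v] at h1
    have h3 := h1.unique (IsE.one S.form hQv 0)
    exact ⟨k, eq_inv_of_mul_eq_one_left h3 ▸ M.inv_mem hm, hkE⟩
  have hTconj : ∀ {c : ι → F} {T : GL ι F}, T ∈ M → T ⋆ v = v → pol Q v c = 0 → EIn Q M v c →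
      pol Q v (T ⋆ c) = 0 ∧ EIn Q M v (T ⋆ c) := fun {c T} hT hTv hc hE => by
    refine ⟨by rw [← hTv, iso_pol (le_iso S hT), hc], ?_⟩
    have := hE.conj (le_iso S hT) hT
    rwa [hTv] at this
  obtain ⟨f, -, hf, hvf⟩ := exists_partner S (nd_top S) Submodule.mem_top H.v0 hv
  obtain ⟨c₀, hc₀, hcc⟩ := exists_aniso_pperp S hv hf hvf
  obtain ⟨hc₀v, -⟩ := (mem_pperp S).1 hc₀
  have hwv : Bf S w v ≠ 0 := fun h => hzw (by rw [hz, pcomm]; exact pol_of_perp S h _)
  obtain ⟨X, hX⟩ : ∃ X, X = -(Bf S w v * Bf S c₀ c₀) := ⟨_, rfl⟩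
  have hsq : ∀ ζ : E, pol Q v ((ζ * ζ * X) • v) = 0 ∧ EIn Q M v ((ζ * ζ * X) • v) := fun ζ => by
    have hcv : Bf S (ζ • c₀) v = 0 := by rw [Bf_smul_left, hc₀v, mul_zero]
    obtain ⟨T, hT, hTc⟩ := exists_T S hv hcv
    have hTv : T ⋆ v = v := by have := hTc.fix_line hv hcv 1; rwa [one_smul] at this
    obtain ⟨hw1, hw2⟩ := hTconj hT hTv hvw hw
    have hd : pol Q v (T ⋆ w - w) = 0 := by rw [psub_right S.form, hw1, hvw, sub_zero]
    have hdE : EIn Q M v (T ⋆ w - w) := by
      rw [sub_eq_add_neg]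
      exact hAdd _ _ hw1 (by rw [pneg_right S.form, hvw, neg_zero]) hw2 (hNeg _ hvw hw)
    obtain ⟨hd1, hd2⟩ := hTconj hT hTv hd hdE
    have hdd : T ⋆ (T ⋆ w - w) - (T ⋆ w - w) = (ζ * ζ * X) • v := by
      have hdv : Bf S (T ⋆ w - w) v = 0 := by
        rw [hTc w]
        simp only [Bf_sub_left, Bf_add_left, Bf_smul_left, hv, hc₀v]
        ring
      rw [hTc.perp hdv, hTc w, hX]
      simp only [Bf_sub_left, Bf_add_left, Bf_smul_left, Bf_smul_right, Bf_comm S v c₀, hc₀v, hv]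
      match_scalars <;> ring
    refine ⟨by have := pol_line S hv 1 (ζ * ζ * X); rwa [one_smul] at this, ?_⟩
    rw [← hdd, sub_eq_add_neg (T ⋆ (T ⋆ w - w))]
    exact hAdd _ _ hd1 (by rw [pneg_right S.form, hd, neg_zero]) hd2 (hNeg _ hd hdE)
  intro η
  have hX0 : X ≠ 0 := hX ▸ neg_ne_zero.2 (mul_ne_zero hwv hcc)
  obtain ⟨q, hq⟩ : ∃ q, q = η / (2 * X) := ⟨_, rfl⟩
  rw [show η • v = ((q + 1) * (q + 1) * X) • v + (-((q * q * X) • v) + -(((1 : E) * 1 * X) • v)) by
    rw [hq]; match_scalars; field_simp; ring]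
  obtain ⟨p1, e1⟩ := hsq (q + 1)
  obtain ⟨p2, e2⟩ := hsq q
  obtain ⟨p3, e3⟩ := hsq 1
  have n2 : pol Q v (-((q * q * X) • v)) = 0 := by rw [pneg_right S.form, p2, neg_zero]
  have n3 : pol Q v (-(((1 : E) * 1 * X) • v)) = 0 := by rw [pneg_right S.form, p3, neg_zero]
  exact hAdd _ _ p1 (by rw [padd_right S.form, n2, n3, add_zero]) e1
    (hAdd _ _ n2 n3 (hNeg _ p2 e2) (hNeg _ p3 e3))

/-- a hyperplane fixed gives a centre -/
theorem exists_centre_aniso (hr : finrank F E = 2) (hn : 8 ≤ Fintype.card ι) (h4 : 4 ≤ finrank E (ι → F))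
    (hA : AnisoPerp S) {g : GL ι F} {v : ι → F} {ρ : E} (H : Hyp S g v ρ) :
    ∃ κ : E, κ ≠ 0 ∧ κ • v ∈ eCentres Q M := by
  obtain ⟨g', H', hy⟩ := convert_aniso S hr h4 hA H
  have hroot := roots_aniso S hr hn hA H' hy
  have hroot' : ∀ η : E, EIn Q M ((1 : E) • v) (η • v) := fun η => by rw [one_smul]; exact hroot η
  have hκρ : tr F E (1 * ρ) = 0 := by rw [one_mul]; exact H.tr_ρ
  obtain ⟨z, hz, hzv⟩ := exists_off S H' hκρ one_ne_zero hroot' (Or.inl hy)
  refine ⟨1, one_ne_zero, mem_eCentres_of_eSub (hQ := S.form) (hx := Q_sing S H.vv 1) fun x hx =>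
    per_le S H' hκρ hroot' hz hzv fun p hp => ?_⟩
  obtain ⟨t, rfl⟩ := scalar_of_tr S hr H.ρ0 H.tr_ρ hp
  rw [algebraMap_smul, psmul_right S.form]
  rw [one_smul] at hx
  rw [pcomm x, hx, mul_zero]

end CfsgLib.Perm.Trans.OrthExt
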