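import Cfsg.Agent.Lib.Perm.Trans.OrthExt.Spread
import Cfsg.Agent.Lib.Perm.Trans.OrthExt.Eight
import Cfsg.Agent.Lib.Perm.Trans.OrthExt.Three.Roots
import Cfsg.Agent.Lib.Perm.Trans.OrthExt.Three.Rigid

/-!
# The normaliser of a self-adjoint field extension of prime degree is maximal in `Ω`
-/

set_option autoImplicit false
set_option linter.all false

namespace CfsgLib.Perm.Trans.OrthExt

open scoped Matrix
open Matrix Module Cfsg.Geo CfsgLib.Perm.Asch CfsgLib.Perm.Trans CfsgLib.Perm.Trans.Quad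
open CfsgLib.Perm.Trans.Symp.Ext (tr trDual trDual_apply tr_ext tr_smul_one exists_tr_separate)

variable {ι : Type} [Fintype ι] [DecidableEq ι] {F : Type*} [Field F] [Fintype F]
variable {Q : (ι → F) → F}

local notation "pol" => QuadraticMap.polar
local notation:75 g " ⋆ " x:75 => (Units.val g : Matrix ι ι F) *ᵥ x

/-- self-adjoint field extensions of prime degree: the general case, and the quadratic one in minus type of
dimension eight -/
theorem extField_maximal_core (hQ : IsNondegenerateQuadraticForm Q) (h2 : (2 : F) ≠ 0) {r : ℕ} (hr : r.Prime)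
    {K : Subalgebra F (Matrix ι ι F)} (hK : IsFieldSubalgebra r K) (hsa : IsSelfAdjointFor (QuadraticMap.polar Q) K)
    (hge : 3 * r ≤ Fintype.card ι) (hthree : 3 * r = Fintype.card ι → 3 ≤ r)
    (hcase : 3 * r = Fintype.card ι ∨ 10 ≤ Fintype.card ι ∨ r = 2 ∧ Fintype.card ι = 8 ∧ ¬ IsPlusTypeOn Q ⊤) :
    IsMaximalIn (omegaGL Q) (subalgebraNormalizer K ⊓ omegaGL Q) := by
  classical
  haveI : Nonempty ι := Fintype.card_pos_iff.1 (by have := hr.two_le; omega)
  haveI : Nontrivial K := ⟨⟨0, 1, fun h => zero_ne_one (congrArg Subtype.val h :)⟩⟩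
  have hfield : IsField K :=
    { exists_pair_ne := ⟨0, 1, zero_ne_one⟩
      mul_comm := fun a b => Subtype.ext (hK.comm _ a.2 _ b.2)
      mul_inv_cancel := fun {a} ha => by
        obtain ⟨y, hy, h⟩ := hK.inv _ a.2 fun h => ha (Subtype.ext h)
        exact ⟨⟨y, hy⟩, Subtype.ext h⟩ }
  letI : Field K := hfield.toField
  have hsmul : ∀ (k : K) (x : ι → F), k • x = (k : Matrix ι ι F) *ᵥ x := fun k x => rfl
  haveI : IsScalarTower F K (ι → F) := ⟨fun c k x => by
    rw [hsmul, hsmul, Subalgebra.coe_smul, Matrix.smul_mulVec]⟩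
  haveI : FiniteDimensional F K := Module.Finite.of_finite
  haveI : FiniteDimensional K (ι → F) := Module.Finite.of_finite
  haveI : Finite K := Module.finite_of_finite F
  have hrK : finrank F K = r := hK.finrank_eq
  have hmul : r * finrank K (ι → F) = Fintype.card ι := by
    rw [← hrK, finrank_mul_finrank F K (ι → F), Module.finrank_fintype_fun_eq_card]
  have hl3 : 3 ≤ finrank K (ι → F) := by
    by_contra hlt
    have h1 : r * finrank K (ι → F) ≤ r * 2 := Nat.mul_le_mul_left r (by omega)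
    have := hr.pos
    omega
  have hn : 5 ≤ Fintype.card ι := by have := hr.two_le; omega
  have mkS : ∀ M : Subgroup (GL ι F), subalgebraNormalizer K ⊓ omegaGL Q ≤ M → M ≤ omegaGL Q → OData K Q M :=
    fun M hHM hM =>
    { form := hQ
      two := h2
      prime := by rw [hrK]; exact hr
      three := hl3
      adj := fun e x y => by rw [hsmul, hsmul, hsa _ e.2]
      le := hM
      lin_le := fun g hg hlin => hHM ⟨fun k => by
        have hcomm : ∀ k : Matrix ι ι F, k ∈ K → (g : Matrix ι ι F) * k = k * (g : Matrix ι ι F) := fun k hk => by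
          refine Matrix.ext_iff_mulVec.2 fun x => ?_
          rw [← Matrix.mulVec_mulVec, ← Matrix.mulVec_mulVec, ← hsmul ⟨k, hk⟩, ← hsmul ⟨k, hk⟩]
          exact hlin _ x
        refine ⟨fun hk => ?_, fun hk => ?_⟩
        · rw [hcomm k hk, mul_assoc, Units.mul_inv, mul_one]
          exact hk
        · have h1 := hcomm _ hk
          rw [mul_assoc (g : Matrix ι ι F) k, mul_assoc _ _ (g : Matrix ι ι F), mul_assoc k, Units.inv_mul, mul_one]
            at h1
          rw [show k = (g : Matrix ι ι F) * k * ((g⁻¹ : GL ι F) : Matrix ι ι F) from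
            ((Units.mul_right_inj g).1 (by rw [mul_assoc (g : Matrix ι ι F) k]; exact h1)).symm]
          exact hk, hg⟩ }
  refine isMaximalIn_of_pair hQ hn (fun hle => ?_) fun M hHM hM hnot => ?_
  · -- an element of `Ω` moving a singular line to one which is not singular over the field
    have S := mkS (omegaGL Q) inf_le_right le_rfl
    obtain ⟨v, -, f, -, hv, hf, hvf⟩ := exists_pairE S (nd_top S) (by rw [finrank_top]; omega)
    obtain ⟨γ, hγm, hγ0⟩ := Submodule.exists_mem_ne_zero_of_ne_bot (LinearMap.ker_ne_bot_of_finrank_lt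
      (f := tr F K) (by rw [Module.finrank_self, hrK]; exact hr.one_lt))
    rw [LinearMap.mem_ker] at hγm
    obtain ⟨x, hx⟩ : ∃ x, x = v + (γ / 2) • f := ⟨_, rfl⟩
    have hxx : Bf S x x = γ := by
      rw [hx]
      simp only [Bf_add_left, Bf_add_right, Bf_smul_left, Bf_smul_right, hv, hf, hvf, Bf_comm S f v]
      have := two_E S
      field_simp
      ring
    have hQx : Q x = 0 := by
      have h := Q_eq S x
      rw [hxx, hγm] at h
      exact (mul_eq_zero.1 h).resolve_left h2
    have hv0 : v ≠ 0 := fun h => by rw [h, Bf_zero_left] at hvf; exact zero_ne_one hvf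
    have hx0 : x ≠ 0 := fun h => by rw [h, Bf_zero_left] at hxx; exact hγ0 hxx.symm
    have hQv : Q v = 0 := by
      have := Q_sing S hv 1
      rwa [one_smul] at this
    obtain ⟨g, hg, hgv⟩ := exists_move hQ hn hv0 hx0 hQv hQx
    have hgN := hle (eGroup_le_omega hQ hn hg)
    let σ : K → K := fun k => ⟨_, (hgN (k : Matrix ι ι F)).1 k.2⟩
    have hσ : ∀ k : K, g ⋆ (k • v) = σ k • x := fun k => by
      rw [hsmul (σ k), ← hgv, hsmul k]
      show _ = ((g : Matrix ι ι F) * (k : Matrix ι ι F) * ((g⁻¹ : GL ι F) : Matrix ι ι F)) *ᵥ _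
      rw [← Matrix.mulVec_mulVec, ← Matrix.mulVec_mulVec, gl_inv_mulVec]
    have hinj : Function.Injective σ := fun a b hab => by
      have h1 := congrArg Subtype.val hab
      exact Subtype.ext ((Units.mul_right_inj g).1 ((Units.mul_left_inj g⁻¹).1 h1))
    obtain ⟨k, hk⟩ := Finite.injective_iff_surjective.1 hinj γ⁻¹
    obtain ⟨k', hk'⟩ := Finite.injective_iff_surjective.1 hinj 1
    have h1 : pol Q (g ⋆ (k • v)) (g ⋆ (k' • v)) = 0 := by
      rw [iso_pol (eGroup_le_iso hg), pol_line S hv]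
    rw [hσ, hσ, hk, hk', one_smul, pol_smul_left S, hxx, inv_mul_cancel₀ hγ0, ← one_smul F (1 : K), tr_smul_one]
      at h1
    exact one_ne_zero h1
  have S := mkS M hHM hM
  obtain ⟨g, hg, hgn⟩ := SetLike.not_le_iff_exists.1 hnot
  have hnsemi : ¬ ∀ e : K, ∃ e' : K, ∀ x, g ⋆ (e • x) = e' • (g ⋆ x) := fun hn' => by
    apply hgn
    have hfwd : ∀ k : Matrix ι ι F, k ∈ K → (g : Matrix ι ι F) * k * ((g⁻¹ : GL ι F) : Matrix ι ι F) ∈ K := by
      intro k hk
      obtain ⟨e', he⟩ := hn' ⟨k, hk⟩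
      have hmat : (g : Matrix ι ι F) * k = (e' : Matrix ι ι F) * g := by
        refine Matrix.ext_iff_mulVec.2 fun x => ?_
        rw [← Matrix.mulVec_mulVec, ← Matrix.mulVec_mulVec, ← hsmul ⟨k, hk⟩, ← hsmul e']
        exact he x
      rw [hmat, mul_assoc, Units.mul_inv, mul_one]
      exact e'.2
    intro k
    refine ⟨hfwd k, fun hk => ?_⟩
    have hinj : Function.Injective (fun k : K => (⟨_, hfwd (k : Matrix ι ι F) k.2⟩ : K)) := fun a b hab =>
      Subtype.ext (by
        have h1 := congrArg Subtype.val hab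
        exact (Units.mul_right_inj g).1 ((Units.mul_left_inj g⁻¹).1 h1))
    obtain ⟨k', hk'⟩ := (Finite.injective_iff_surjective.1 hinj) ⟨_, hk⟩
    have h1 := congrArg Subtype.val hk'
    rw [show k = (k' : Matrix ι ι F) from ((Units.mul_right_inj g).1 ((Units.mul_left_inj g⁻¹).1 h1)).symm]
    exact k'.2
  obtain ⟨v₁, e₁, hv₁0, hv₁, hbad⟩ := exists_bad S hnsemi
  rcases hl3.eq_or_lt with h3 | hl
  · -- dimension three over the field
    have hr5 : 3 ≤ finrank F K := by
      rw [hrK]
      exact hthree (by rw [← hmul, ← h3]; ring)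
    by_cases hO : NoOz S
    · exact absurd (lines_to_lines hr5 h3.symm hO hg hv₁ hv₁0 e₁) hbad
    obtain ⟨g₁, hg₁, hg₁v, hg₁m⟩ := exists_start_three S (by omega) h3.symm hg hv₁ hv₁0 hbad
    rw [NoOz] at hO
    push Not at hO
    obtain ⟨w, hw, hw0, ω, hω, hne⟩ := hO
    obtain ⟨a, f, R⟩ := exists_frame S hw hw0
    exact centre_three hr5 h3.symm R ⟨ω, hω, hne⟩ ⟨hg₁, hv₁, hv₁0, hg₁v, hg₁m⟩
  obtain ⟨g₁, hg₁, hg₁v, hg₁m⟩ := exists_start S hl hg hv₁ hv₁0 hbad
  obtain ⟨g₂, ρ, H⟩ := exists_hyp S hl hg₁ hv₁ hv₁0 hg₁v hg₁m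
  rcases hcase with h | h10 | ⟨hr2, h8, hminus⟩
  · have := Nat.mul_le_mul_left r hl
    rw [hmul] at this
    have := hr.pos
    omega
  · have h4r : r * 4 ≤ Fintype.card ι := hmul ▸ Nat.mul_le_mul_left r hl
    have hbig : 2 * r + 5 ≤ Fintype.card ι := by omega
    have hsmall : 3 * r + 3 ≤ Fintype.card ι := by
      rcases Nat.lt_or_ge r 3 with h | h <;> omega
    have h5 : r = 2 → 5 ≤ finrank K (ι → F) := fun h => by
      subst h
      omega
    obtain ⟨κ, hκ, hκc⟩ := exists_centre S (by rw [hrK]; exact hbig) (by rw [hrK]; exact hsmall)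
      (fun h => h5 (hrK ▸ h)) H
    exact exists_opposite S H.vv H.v0 hκ hκc
  · have hr2' : finrank F K = 2 := hrK.trans hr2
    obtain ⟨κ, hκ, hκc⟩ := exists_centre_aniso S hr2' h8.ge hl (anisoPerp_of_minus S hr2' h8 hminus) H
    exact exists_opposite S H.vv H.v0 hκ hκc

/-- self-adjoint field extensions of prime degree, the space of dimension at least three over them, the degree at
least five if the dimension is three -/
theorem extField_maximal_le (hQ : IsNondegenerateQuadraticForm Q) (h2 : (2 : F) ≠ 0) {r : ℕ} (hr : r.Prime)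
    {K : Subalgebra F (Matrix ι ι F)} (hK : IsFieldSubalgebra r K) (hsa : IsSelfAdjointFor (QuadraticMap.polar Q) K)
    (hge : 3 * r ≤ Fintype.card ι) (hfive : 3 * r = Fintype.card ι → 5 ≤ r) (h10 : 10 ≤ Fintype.card ι) :
    IsMaximalIn (omegaGL Q) (subalgebraNormalizer K ⊓ omegaGL Q) :=
  extField_maximal_core hQ h2 hr hK hsa hge (fun h => by have := hfive h; omega) (Or.inr (Or.inl h10))

/-- quadratic extensions in dimension eight of minus type -/
theorem extField_maximal_eight (hQ : IsNondegenerateQuadraticForm Q) (h2 : (2 : F) ≠ 0)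
    {K : Subalgebra F (Matrix ι ι F)} (hK : IsFieldSubalgebra 2 K) (hsa : IsSelfAdjointFor (QuadraticMap.polar Q) K)
    (h8 : Fintype.card ι = 8) (hminus : ¬ IsPlusTypeOn Q ⊤) :
    IsMaximalIn (omegaGL Q) (subalgebraNormalizer K ⊓ omegaGL Q) :=
  extField_maximal_core hQ h2 Nat.prime_two hK hsa (by omega) (fun h => by omega) (Or.inr (Or.inr ⟨rfl, h8, hminus⟩))

/-- self-adjoint field extensions of odd prime degree, the space of dimension three over them -/
theorem extField_maximal_three (hQ : IsNondegenerateQuadraticForm Q) (h2 : (2 : F) ≠ 0) {r : ℕ} (hr : r.Prime)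
    (hr2 : r ≠ 2) {K : Subalgebra F (Matrix ι ι F)} (hK : IsFieldSubalgebra r K)
    (hsa : IsSelfAdjointFor (QuadraticMap.polar Q) K) (hn : Fintype.card ι = 3 * r) :
    IsMaximalIn (omegaGL Q) (subalgebraNormalizer K ⊓ omegaGL Q) :=
  extField_maximal_core hQ h2 hr hK hsa hn.ge (fun _ => by have := hr.two_le; omega) (Or.inl hn.symm)

/-- self-adjoint field extensions of prime degree, the space of dimension at least four over them -/
theorem extField_maximal (hQ : IsNondegenerateQuadraticForm Q) (h2 : (2 : F) ≠ 0) {r : ℕ} (hr : r.Prime)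
    {K : Subalgebra F (Matrix ι ι F)} (hK : IsFieldSubalgebra r K) (hsa : IsSelfAdjointFor (QuadraticMap.polar Q) K)
    (hfour : 3 * r < Fintype.card ι) (h10 : 10 ≤ Fintype.card ι) :
    IsMaximalIn (omegaGL Q) (subalgebraNormalizer K ⊓ omegaGL Q) :=
  extField_maximal_le hQ h2 hr hK hsa hfour.le (fun h => absurd h hfour.ne) h10

end CfsgLib.Perm.Trans.OrthExt
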