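import Mathlib
import Cfsg.Agent.Lib.Perm.Trans.SympExtBase
import Cfsg.Agent.Lib.Perm.Trans.QuadMax

/-!
# Orthogonal groups over an extension field of prime degree inside orthogonal groups: the basic elements

`E` acts self-adjointly for the polar form of `Q`.  The form over `E`, its singular vectors and hyperbolic pairs,
and the `E`-linear elements of an overgroup: Eichler transformations over `E`, moves and scalings of singular
lines, all obtained as squares of isometries.
-/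

set_option autoImplicit false
set_option linter.all false

namespace CfsgLib.Perm.Trans.OrthExt

open scoped Matrix
open Matrix Module Cfsg.Geo CfsgLib.Perm.Asch CfsgLib.Perm.Trans CfsgLib.Perm.Trans.Quad
open CfsgLib.Perm.Trans.Symp.Ext (tr trDual trDual_apply tr_ext tr_smul_one exists_tr_separate)

variable {ι : Type} [Fintype ι] [DecidableEq ι] {F : Type*} [Field F] [Fintype F]
variable {E : Type*} [Field E] [Algebra F E] [FiniteDimensional F E]
variable [Module E (ι → F)] [IsScalarTower F E (ι → F)]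
variable {Q : (ι → F) → F}

local notation "pol" => QuadraticMap.polar
local notation:75 g " ⋆ " x:75 => (Units.val g : Matrix ι ι F) *ᵥ x

/-- squares of isometries lie in `Ω` -/
theorem sq_omega (hQ : IsNondegenerateQuadraticForm Q) (hn : 5 ≤ Fintype.card ι) {g : GL ι F}
    (hg : g ∈ Cfsg.isometryGroup F Q) : g * g ∈ omegaGL Q := by
  let π : Cfsg.isometryGroup F Q →* Abelianization (Cfsg.isometryGroup F Q) := Abelianization.of
  let N : Subgroup (Cfsg.isometryGroup F Q) :=
    { carrier := {x | π x * π x = 1}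
      one_mem' := by simp
      mul_mem' := fun {x y} hx hy => by
        show π (x * y) * π (x * y) = 1
        rw [map_mul, mul_mul_mul_comm, hx, hy, mul_one]
      inv_mem' := fun {x} hx => by
        show π x⁻¹ * π x⁻¹ = 1
        rw [map_inv, ← mul_inv, hx, inv_one] }
  have hle : eRefl Q ≤ N.map (Cfsg.isometryGroup F Q).subtype := by
    refine sup_le (fun x hx => ?_) ((Subgroup.closure_le _).2 ?_)
    · obtain ⟨y, hy, hyx⟩ := Subgroup.mem_map.1 (eGroup_le_omega hQ hn hx)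
      refine ⟨y, ?_, hyx⟩
      show π y * π y = 1
      have h1 : π y = 1 := by
        have h2 : y ∈ (π).ker := by rw [Abelianization.ker_of]; exact hy
        exact h2
      rw [h1, one_mul]
    · rintro x ⟨hxi, v, hv, hR⟩
      refine ⟨⟨x, hxi⟩, ?_, rfl⟩
      show π _ * π _ = 1
      rw [← map_mul, show (⟨x, hxi⟩ : Cfsg.isometryGroup F Q) * ⟨x, hxi⟩ = 1 from Subtype.ext ?_, map_one]
      refine gl_ext_vec fun y => ?_
      show ((x * x : GL ι F) : Matrix ι ι F) *ᵥ y = ((1 : GL ι F) : Matrix ι ι F) *ᵥ y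
      rw [gl_mul_mulVec, hR, hR, psub_left hQ, psmul_left hQ, pself hQ, Units.val_one, one_mulVec]
      match_scalars <;> field_simp <;> ring
  obtain ⟨x, hx, hxg⟩ := hle (iso_le_eRefl hQ hg)
  subst hxg
  refine Subgroup.mem_map.2 ⟨x * x, ?_, rfl⟩
  show x * x ∈ commutator (Cfsg.isometryGroup F Q)
  rw [← Abelianization.ker_of, MonoidHom.mem_ker, map_mul]
  exact hx

/-- the vectors `a` with all `E(x, s a)` in `M` -/
def eSub (hQ : IsNondegenerateQuadraticForm Q) (M : Subgroup (GL ι F)) (x : ι → F) (hx : Q x = 0) :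
    Submodule F (ι → F) where
  carrier := {p | pol Q x p = 0 ∧ ∀ s : F, EIn Q M x (s • p)}
  zero_mem' := ⟨pzero_right hQ x, fun s => by
    rw [smul_zero]
    have := EIn.smul_self hQ M hx 0
    rwa [zero_smul] at this⟩
  add_mem' := fun {p p'} hp hp' => ⟨by rw [padd_right hQ, hp.1, hp'.1, add_zero], fun s => by
    rw [smul_add]
    exact EIn.add hQ hx (by rw [psmul_right hQ, hp.1, mul_zero]) (by rw [psmul_right hQ, hp'.1, mul_zero])
      (hp.2 s) (hp'.2 s)⟩
  smul_mem' := fun c p hp => ⟨by rw [psmul_right hQ, hp.1, mul_zero], fun s => by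
    rw [smul_smul]; exact hp.2 _⟩

theorem mem_eCentres_of_eSub {hQ : IsNondegenerateQuadraticForm Q} {M : Subgroup (GL ι F)} {x : ι → F} {hx : Q x = 0}
    (h : ∀ a, pol Q x a = 0 → a ∈ eSub hQ M x hx) : x ∈ eCentres Q M :=
  ⟨hx, fun a ha => by
    have := (h a ha).2 1
    rwa [one_smul] at this⟩

/-- the data of an overgroup -/
structure OData (E : Type*) [Field E] [Algebra F E] [Module E (ι → F)] (Q : (ι → F) → F)
    (M : Subgroup (GL ι F)) : Prop where
  form : IsNondegenerateQuadraticForm Q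
  two : (2 : F) ≠ 0
  prime : (finrank F E).Prime
  three : 3 ≤ finrank E (ι → F)
  adj : ∀ (e : E) (x y : ι → F), pol Q (e • x) y = pol Q x (e • y)
  le : M ≤ omegaGL Q
  lin_le : ∀ g ∈ omegaGL Q, (∀ (e : E) (x : ι → F), g ⋆ (e • x) = e • (g ⋆ x)) → g ∈ M

variable {M : Subgroup (GL ι F)} (S : OData E Q M)
include S

theorem card_eq : finrank F E * finrank E (ι → F) = Fintype.card ι := by
  rw [finrank_mul_finrank F E (ι → F), Module.finrank_fintype_fun_eq_card]

theorem card_ge : 5 ≤ Fintype.card ι := by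
  rw [← card_eq S]
  have h1 := S.three
  have h2 : 2 * 3 ≤ finrank F E * finrank E (ι → F) := Nat.mul_le_mul S.prime.two_le h1
  omega

theorem le_iso : M ≤ Cfsg.isometryGroup F Q := S.le.trans omegaGL_le_iso

theorem finE : FiniteDimensional E (ι → F) := Module.Finite.of_restrictScalars_finite F E (ι → F)

theorem two_E : (2 : E) ≠ 0 := by
  intro h
  apply S.two
  apply (algebraMap F E).injective
  rw [map_ofNat, map_zero, h]

/-- `q ↦ pol (q x) y` -/
noncomputable def qfun (x y : ι → F) : Module.Dual F E where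
  toFun q := pol Q (q • x) y
  map_add' p q := by rw [add_smul, padd_left S.form]
  map_smul' c q := by rw [smul_assoc, psmul_left S.form]; rfl

/-- the form over `E` -/
noncomputable def Bf (x y : ι → F) : E := (trDual F E).symm (qfun S x y)

theorem tr_Bf (q : E) (x y : ι → F) : tr F E (q * Bf S x y) = pol Q (q • x) y := by
  rw [← trDual_apply, Bf, LinearEquiv.apply_symm_apply]
  rfl

theorem pol_eq (x y : ι → F) : pol Q x y = tr F E (Bf S x y) := by
  rw [← one_mul (Bf S x y), tr_Bf, one_smul]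

theorem Bf_comm (x y : ι → F) : Bf S x y = Bf S y x := tr_ext (F := F) fun q => by
  rw [tr_Bf, tr_Bf, S.adj, pcomm]

theorem Bf_add_left (x x' y : ι → F) : Bf S (x + x') y = Bf S x y + Bf S x' y := tr_ext (F := F) fun q => by
  rw [mul_add, map_add, tr_Bf, tr_Bf, tr_Bf, smul_add, padd_left S.form]

theorem Bf_smul_left (e : E) (x y : ι → F) : Bf S (e • x) y = e * Bf S x y := tr_ext (F := F) fun q => by
  rw [← mul_assoc, tr_Bf, tr_Bf, smul_smul]

theorem Bf_add_right (x y y' : ι → F) : Bf S x (y + y') = Bf S x y + Bf S x y' := by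
  rw [Bf_comm S x, Bf_add_left, Bf_comm S y, Bf_comm S y']

theorem Bf_smul_right (e : E) (x y : ι → F) : Bf S x (e • y) = e * Bf S x y := by
  rw [Bf_comm S x, Bf_smul_left, Bf_comm S y]

/-- `x ↦ Bf x u` -/
noncomputable def Bl (u : ι → F) : (ι → F) →ₗ[E] E where
  toFun x := Bf S x u
  map_add' x y := Bf_add_left S x y u
  map_smul' e x := Bf_smul_left S e x u

theorem Bl_apply (u x : ι → F) : Bl S u x = Bf S x u := rfl

theorem Bf_sub_left (x x' y : ι → F) : Bf S (x - x') y = Bf S x y - Bf S x' y := map_sub (Bl S y) x x'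

theorem Bf_sub_right (x y y' : ι → F) : Bf S x (y - y') = Bf S x y - Bf S x y' := by
  rw [Bf_comm S x, Bf_sub_left, Bf_comm S y, Bf_comm S y']

theorem Bf_zero_left (y : ι → F) : Bf S 0 y = 0 := map_zero (Bl S y)

theorem Bf_zero_right (x : ι → F) : Bf S x 0 = 0 := by rw [Bf_comm S, Bf_zero_left]

theorem Bf_neg_left (x y : ι → F) : Bf S (-x) y = -Bf S x y := map_neg (Bl S y) x

theorem Bf_neg_right (x y : ι → F) : Bf S x (-y) = -Bf S x y := by rw [Bf_comm S, Bf_neg_left, Bf_comm S y]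

theorem Bf_fsmul_left (c : F) (x y : ι → F) : Bf S (c • x) y = c • Bf S x y := by
  rw [← algebraMap_smul E c x, Bf_smul_left, Algebra.smul_def]

theorem pol_smul_left (p : E) (x y : ι → F) : pol Q (p • x) y = tr F E (p * Bf S x y) := (tr_Bf S p x y).symm

theorem pol_smul_right (p : E) (x y : ι → F) : pol Q x (p • y) = tr F E (p * Bf S x y) := by
  rw [← S.adj, tr_Bf]

theorem Q_eq (x : ι → F) : 2 * Q x = tr F E (Bf S x x) := by rw [← pself S.form, pol_eq S]

theorem Q_congr {x y : ι → F} (h : Bf S x x = Bf S y y) : Q x = Q y :=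
  mul_left_cancel₀ S.two (by rw [Q_eq S, Q_eq S, h])

theorem Q_sing {v : ι → F} (hv : Bf S v v = 0) (p : E) : Q (p • v) = 0 := by
  have h := Q_eq S (p • v)
  rw [Bf_smul_left, Bf_smul_right, hv, mul_zero, mul_zero, map_zero] at h
  exact (mul_eq_zero.1 h).resolve_left S.two

theorem pol_line {v : ι → F} (hv : Bf S v v = 0) (p q : E) : pol Q (p • v) (q • v) = 0 := by
  rw [pol_smul_left S, Bf_smul_right, hv, mul_zero, mul_zero, map_zero]

theorem Bf_nondeg {x : ι → F} (hx : x ≠ 0) : ∃ y, Bf S x y ≠ 0 := by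
  obtain ⟨y, hy⟩ := (S.form.nondegenerate x hx).2
  exact ⟨y, fun h => hy (by rw [pol_eq S, h, map_zero])⟩

theorem exists_rep (φ : (ι → F) →ₗ[E] E) : ∃ u, ∀ x, Bf S x u = φ x := by
  haveI := finE S
  let L : (ι → F) →ₗ[E] Module.Dual E (ι → F) :=
    { toFun := fun u => Bl S u
      map_add' := fun a b => LinearMap.ext fun x => Bf_add_right S x a b
      map_smul' := fun e a => LinearMap.ext fun x => Bf_smul_right S e x a }
  have hinj : Function.Injective L := by
    refine (injective_iff_map_eq_zero L).2 fun u hu => by_contra fun hne => ?_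
    obtain ⟨x, hx⟩ := Bf_nondeg S hne
    exact hx (by rw [Bf_comm S]; exact LinearMap.congr_fun hu x)
  obtain ⟨u, hu⟩ := (LinearMap.injective_iff_surjective_of_finrank_eq_finrank
    (Subspace.dual_finrank_eq).symm).1 hinj φ
  exact ⟨u, fun x => LinearMap.congr_fun hu x⟩

/-- a vector orthogonal to a subspace and pairing to one with a given vector outside -/
theorem exists_sep {W : Submodule E (ι → F)} {y : ι → F} (hy : y ∉ W) :
    ∃ a, (∀ w ∈ W, Bf S w a = 0) ∧ Bf S y a = 1 := by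
  obtain ⟨φ, h1, h2⟩ := CfsgLib.Perm.ExtField.exists_fn hy
  obtain ⟨a, ha⟩ := exists_rep S φ
  exact ⟨a, fun w hw => by rw [ha, h2 w hw], by rw [ha, h1]⟩

theorem exists_sep_line {v y : ι → F} (hy : y ∉ Submodule.span E {v}) : ∃ a, Bf S a v = 0 ∧ Bf S y a = 1 := by
  obtain ⟨a, h1, h2⟩ := exists_sep S hy
  exact ⟨a, by rw [Bf_comm S]; exact h1 v (Submodule.mem_span_singleton_self v), h2⟩

omit S in
theorem not_mem_pair_symm {v a b : ι → F} (ha : a ∉ Submodule.span E ({v} : Set (ι → F)))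
    (hb : b ∉ Submodule.span E ({v, a} : Set (ι → F))) : a ∉ Submodule.span E ({v, b} : Set (ι → F)) := by
  intro h
  rw [Submodule.mem_span_pair] at h
  obtain ⟨s, t, hst⟩ := h
  rcases eq_or_ne t 0 with rfl | ht
  · exact ha (Submodule.mem_span_singleton.2 ⟨s, by rw [← hst, zero_smul, add_zero]⟩)
  · refine hb (Submodule.mem_span_pair.2 ⟨-(t⁻¹ * s), t⁻¹, ?_⟩)
    rw [← hst, smul_add, smul_smul, smul_smul, inv_mul_cancel₀ ht, one_smul, neg_smul, neg_add_cancel_left]

/-- prescribed pairings with two vectors independent modulo a line, inside its orthogonal -/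
theorem exists_sep_two {v a b : ι → F} (ha : a ∉ Submodule.span E ({v} : Set (ι → F)))
    (hb : b ∉ Submodule.span E ({v, a} : Set (ι → F))) (ξ η : E) :
    ∃ c, Bf S c v = 0 ∧ Bf S a c = ξ ∧ Bf S b c = η := by
  obtain ⟨c₁, h1, h1'⟩ := exists_sep S (not_mem_pair_symm ha hb)
  obtain ⟨c₂, h2, h2'⟩ := exists_sep S hb
  refine ⟨ξ • c₁ + η • c₂, ?_, ?_, ?_⟩
  · rw [Bf_comm S, Bf_add_right, Bf_smul_right, Bf_smul_right, h1 v (Submodule.subset_span (by simp)),
      h2 v (Submodule.subset_span (by simp))]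
    ring
  · rw [Bf_add_right, Bf_smul_right, Bf_smul_right, h1', h2 a (Submodule.subset_span (by simp))]
    ring
  · rw [Bf_add_right, Bf_smul_right, Bf_smul_right, h2', h1 b (Submodule.subset_span (by simp))]
    ring

/-- a vector orthogonal to all of the orthogonal of a line lies on it -/
theorem mem_line_of_perp {v y : ι → F} (h : ∀ x, Bf S x v = 0 → pol Q y x = 0) : y ∈ Submodule.span E {v} := by
  by_contra hy
  obtain ⟨a, ha, hya⟩ := exists_sep_line S hy
  have h1 := h a ha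
  rw [pol_eq S, hya] at h1
  exact one_ne_zero ((tr_smul_one (E := E) (1 : F)).symm.trans (by rw [one_smul]; exact h1))

/-! ### Singular vectors -/

/-- the form over `E` is nondegenerate on `W` -/
def NdE (W : Submodule E (ι → F)) : Prop := ∀ x ∈ W, x ≠ 0 → ∃ y ∈ W, Bf S x y ≠ 0

theorem nd_top : NdE S ⊤ := fun x _ hx => (Bf_nondeg S hx).imp fun y hy => ⟨Submodule.mem_top, hy⟩

theorem exists_partner {W : Submodule E (ι → F)} (hW : NdE S W) {e : ι → F} (he : e ∈ W) (he0 : e ≠ 0)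
    (hee : Bf S e e = 0) : ∃ f ∈ W, Bf S f f = 0 ∧ Bf S e f = 1 := by
  obtain ⟨y, hy, hey⟩ := hW e he he0
  obtain ⟨z, hz⟩ : ∃ z, z = (Bf S e y)⁻¹ • y := ⟨_, rfl⟩
  have hzW : z ∈ W := hz ▸ W.smul_mem _ hy
  have hez : Bf S e z = 1 := by rw [hz, Bf_smul_right, inv_mul_cancel₀ hey]
  have h2 := two_E S
  refine ⟨z - (Bf S z z / 2) • e, W.sub_mem hzW (W.smul_mem _ he), ?_, ?_⟩
  · simp only [Bf_sub_left, Bf_sub_right, Bf_smul_left, Bf_smul_right, hee, Bf_comm S z e, hez]
    field_simp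
    ring
  · rw [Bf_sub_right, Bf_smul_right, hee, hez, mul_zero, sub_zero]

theorem exists_singularE {W : Submodule E (ι → F)} (hW : NdE S W) (hd : 3 ≤ finrank E W) :
    ∃ e ∈ W, e ≠ 0 ∧ Bf S e e = 0 := by
  haveI := finE S
  haveI : Finite E := Module.finite_of_finite F
  haveI : Fintype E := Fintype.ofFinite E
  let B : LinearMap.BilinMap E W E := LinearMap.mk₂ E (fun x y => Bf S (x : ι → F) (y : ι → F))
    (fun x x' y => Bf_add_left S _ _ _) (fun c x y => Bf_smul_left S c _ _)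
    (fun x y y' => Bf_add_right S _ _ _) (fun c x y => Bf_smul_right S c _ _)
  let Q' : QuadraticForm E W := B.toQuadraticMap
  have hpol : ∀ x y : W, QuadraticMap.polarBilin Q' x y = 2 * Bf S (x : ι → F) (y : ι → F) := fun x y => by
    show QuadraticMap.polar Q' x y = _
    rw [show Q' = B.toQuadraticMap from rfl, LinearMap.BilinMap.polar_toQuadraticMap]
    show Bf S (x : ι → F) (y : ι → F) + Bf S (y : ι → F) (x : ι → F) = _
    rw [Bf_comm S (y : ι → F), two_mul]
  have hnd : (QuadraticMap.polarBilin Q').Nondegenerate := by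
    refine ⟨fun x hx => ?_, fun y hy => ?_⟩ <;> by_contra hne
    · obtain ⟨z, hz, hxz⟩ := hW x x.2 fun h => hne (Subtype.ext h)
      have := hx ⟨z, hz⟩
      rw [hpol] at this
      exact hxz ((mul_eq_zero.1 this).resolve_left (two_E S))
    · obtain ⟨z, hz, hyz⟩ := hW y y.2 fun h => hne (Subtype.ext h)
      have := hy ⟨z, hz⟩
      rw [hpol, Bf_comm S] at this
      exact hyz ((mul_eq_zero.1 this).resolve_left (two_E S))
  obtain ⟨u, hu0, hu⟩ := CfsgLib.Classical.exists_singular Q' hnd hd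
  exact ⟨u, u.2, fun h => hu0 (Subtype.ext h), hu⟩

theorem exists_pairE {W : Submodule E (ι → F)} (hW : NdE S W) (hd : 3 ≤ finrank E W) :
    ∃ e ∈ W, ∃ f ∈ W, Bf S e e = 0 ∧ Bf S f f = 0 ∧ Bf S e f = 1 := by
  obtain ⟨e, he, he0, hee⟩ := exists_singularE S hW hd
  obtain ⟨f, hf, hff, hef⟩ := exists_partner S hW he he0 hee
  exact ⟨e, he, f, hf, hee, hff, hef⟩

/-- singular vectors span a subspace with a hyperbolic pair -/
theorem le_of_singularE {W : Submodule E (ι → F)} {S' : Submodule F (ι → F)} {e f : ι → F} (he : e ∈ W)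
    (hf : f ∈ W) (hee : Bf S e e = 0) (hff : Bf S f f = 0) (hef : Bf S e f = 1)
    (h : ∀ x ∈ W, Bf S x x = 0 → x ∈ S') {x : ι → F} (hx : x ∈ W) : x ∈ S' := by
  have hm : ∀ c : E, ∀ z, z ∈ W → Bf S z z = 0 → c • z ∈ S' := fun c z hz hzz =>
    h _ (W.smul_mem _ hz) (by rw [Bf_smul_left, Bf_smul_right, hzz, mul_zero, mul_zero])
  obtain ⟨y, hy⟩ : ∃ y, y = x - Bf S x f • e - Bf S x e • f := ⟨_, rfl⟩
  have hyW : y ∈ W := hy ▸ W.sub_mem (W.sub_mem hx (W.smul_mem _ he)) (W.smul_mem _ hf)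
  have hfe : Bf S f e = 1 := by rw [Bf_comm S]; exact hef
  have hye : Bf S y e = 0 := by
    rw [hy, Bf_sub_left, Bf_sub_left, Bf_smul_left, Bf_smul_left, hee, hfe]; ring
  have hyf : Bf S y f = 0 := by
    rw [hy, Bf_sub_left, Bf_sub_left, Bf_smul_left, Bf_smul_left, hff, hef]; ring
  obtain ⟨z, hz⟩ : ∃ z, z = y + f - (Bf S y y / 2) • e := ⟨_, rfl⟩
  have hzW : z ∈ W := hz ▸ W.sub_mem (W.add_mem hyW hf) (W.smul_mem _ he)
  have hzz : Bf S z z = 0 := by
    simp only [hz, Bf_sub_left, Bf_sub_right, Bf_add_left, Bf_add_right, Bf_smul_left, Bf_smul_right, hee, hff,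
      hef, hfe, hye, hyf, Bf_comm S f y, Bf_comm S e y]
    have := two_E S
    field_simp
    ring
  have h3 : x = z + (Bf S y y / 2 + Bf S x f) • e + (Bf S x e - 1) • f := by rw [hz, hy]; module
  rw [h3]
  exact S'.add_mem (S'.add_mem (h z hzW hzz) (hm _ e he hee)) (hm _ f hf hff)

/-- the orthogonal of a hyperbolic pair -/
noncomputable def pperp (e f : ι → F) : Submodule E (ι → F) := LinearMap.ker (Bl S e) ⊓ LinearMap.ker (Bl S f)

theorem mem_pperp {e f x : ι → F} : x ∈ pperp S e f ↔ Bf S x e = 0 ∧ Bf S x f = 0 := Iff.rfl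

theorem pperp_nd {e f : ι → F} (hee : Bf S e e = 0) (hff : Bf S f f = 0) (hef : Bf S e f = 1) :
    NdE S (pperp S e f) := by
  intro x hx hx0
  obtain ⟨hxe, hxf⟩ := (mem_pperp S).1 hx
  obtain ⟨y, hy⟩ := Bf_nondeg S hx0
  refine ⟨y - Bf S y f • e - Bf S y e • f, (mem_pperp S).2 ⟨?_, ?_⟩, ?_⟩
  · rw [Bf_sub_left, Bf_sub_left, Bf_smul_left, Bf_smul_left, hee, Bf_comm S f e, hef]; ring
  · rw [Bf_sub_left, Bf_sub_left, Bf_smul_left, Bf_smul_left, hff, hef]; ring
  · rwa [Bf_sub_right, Bf_sub_right, Bf_smul_right, Bf_smul_right, hxe, hxf, mul_zero, mul_zero, sub_zero, sub_zero]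

theorem finrank_inf_ker (W : Submodule E (ι → F)) (u : ι → F) :
    finrank E W ≤ finrank E ↥(W ⊓ LinearMap.ker (Bl S u)) + 1 := by
  haveI := finE S
  have h1 := LinearMap.finrank_range_add_finrank_ker ((Bl S u).comp W.subtype)
  have h2 : finrank E (LinearMap.range ((Bl S u).comp W.subtype)) ≤ 1 :=
    (Submodule.finrank_le _).trans (by rw [Module.finrank_self])
  have h3 : finrank E (LinearMap.ker ((Bl S u).comp W.subtype)) =
      finrank E ↥(W ⊓ LinearMap.ker (Bl S u)) := by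
    rw [LinearMap.ker_comp, ← Submodule.map_comap_subtype]
    exact ((Submodule.equivMapOfInjective _ W.injective_subtype _).finrank_eq)
  omega

theorem finrank_pperp (e f : ι → F) : finrank E (ι → F) ≤ finrank E (pperp S e f) + 2 := by
  have h1 := finrank_inf_ker S ⊤ e
  have h2 := finrank_inf_ker S (⊤ ⊓ LinearMap.ker (Bl S e)) f
  rw [finrank_top] at h1
  rw [top_inf_eq] at h1 h2
  exact (by omega : finrank E (ι → F) ≤ finrank E ↥(LinearMap.ker (Bl S e) ⊓ LinearMap.ker (Bl S f)) + 2)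

theorem nd_of_anisotropic {x : ι → F} (hx : Bf S x x ≠ 0) : NdE S (LinearMap.ker (Bl S x)) := by
  intro y hy hy0
  obtain ⟨z, hz⟩ := Bf_nondeg S hy0
  have hyx : Bf S y x = 0 := hy
  refine ⟨z - (Bf S z x / Bf S x x) • x, ?_, ?_⟩
  · show Bf S _ x = 0
    rw [Bf_sub_left, Bf_smul_left, div_mul_cancel₀ _ hx, sub_self]
  · rwa [Bf_sub_right, Bf_smul_right, hyx, mul_zero, sub_zero]

/-- an anisotropic vector in the orthogonal of a hyperbolic pair -/
theorem exists_aniso_pperp {e f : ι → F} (hee : Bf S e e = 0) (hff : Bf S f f = 0) (hef : Bf S e f = 1) :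
    ∃ a ∈ pperp S e f, Bf S a a ≠ 0 := by
  haveI := finE S
  by_contra hcon
  push Not at hcon
  obtain ⟨x, hx, hx0⟩ := Submodule.exists_mem_ne_zero_of_ne_bot (p := pperp S e f) fun h => by
    have h1 := finrank_pperp S e f
    have h2 := S.three
    rw [h, finrank_bot] at h1
    omega
  obtain ⟨y, hy, hxy⟩ := pperp_nd S hee hff hef x hx hx0
  have h := hcon _ ((pperp S e f).add_mem hx hy)
  rw [Bf_add_left, Bf_add_right, Bf_add_right, hcon x hx, hcon y hy, Bf_comm S y x, zero_add, add_zero,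
    ← two_mul] at h
  exact hxy ((mul_eq_zero.1 h).resolve_left (two_E S))

/-! ### Elements -/

/-- the square of a linear isometry over `E` lies in `M` -/
theorem exists_sq_mem (L : (ι → F) →ₗ[E] (ι → F)) (hL : ∀ x, Bf S (L x) (L x) = Bf S x x) :
    ∃ g ∈ M, ∀ x, g ⋆ x = L (L x) := by
  have hB : ∀ x y, Bf S (L x) (L y) = Bf S x y := fun x y => by
    have h := hL (x + y)
    rw [map_add, Bf_add_left, Bf_add_right, Bf_add_right, Bf_add_left, Bf_add_right, Bf_add_right, hL, hL,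
      Bf_comm S (L y), Bf_comm S y x] at h
    exact mul_left_cancel₀ (two_E S) (by linear_combination h)
  have hinj : Function.Injective (L.restrictScalars F) :=
    (injective_iff_map_eq_zero (L.restrictScalars F)).2 fun x hx => by_contra fun hne => by
      obtain ⟨y, hy⟩ := Bf_nondeg S hne
      rw [← hB, show L x = 0 from hx, Bf_zero_left] at hy
      exact hy rfl
  let φ := LinearEquiv.ofBijective (L.restrictScalars F) ⟨hinj, LinearMap.injective_iff_surjective.1 hinj⟩
  obtain ⟨g, hg⟩ : ∃ g : GL ι F, ∀ x, g ⋆ x = L x :=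
    ⟨⟨LinearMap.toMatrix' (φ : (ι → F) →ₗ[F] (ι → F)), LinearMap.toMatrix' (φ.symm : (ι → F) →ₗ[F] (ι → F)),
      by rw [← LinearMap.toMatrix'_comp, LinearEquiv.comp_coe, LinearEquiv.symm_trans_self,
        LinearEquiv.refl_toLinearMap, LinearMap.toMatrix'_id],
      by rw [← LinearMap.toMatrix'_comp, LinearEquiv.comp_coe, LinearEquiv.self_trans_symm,
        LinearEquiv.refl_toLinearMap, LinearMap.toMatrix'_id]⟩,
      fun x => LinearMap.toMatrix'_mulVec (φ : (ι → F) →ₗ[F] (ι → F)) x⟩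
  have hgi : g ∈ Cfsg.isometryGroup F Q := mem_iso.2 fun x => by rw [hg]; exact Q_congr S (hL x)
  refine ⟨g * g, S.lin_le _ (sq_omega S.form (card_ge S) hgi) fun e x => ?_, fun x => by
    rw [gl_mul_mulVec, hg, hg]⟩
  rw [gl_mul_mulVec, gl_mul_mulVec, hg, hg, hg, hg, map_smul, map_smul]

/-- `g` is the Eichler transformation of `v` and `a` over `E` -/
def IsT (v a : ι → F) (g : GL ι F) : Prop :=
  ∀ x, g ⋆ x = x + Bf S x v • a - (Bf S x a + Bf S a a / 2 * Bf S x v) • v

theorem exists_T {v a : ι → F} (hv : Bf S v v = 0) (ha : Bf S a v = 0) : ∃ g ∈ M, IsT S v a g := by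
  obtain ⟨b, hb⟩ : ∃ b, b = (2 : E)⁻¹ • a := ⟨_, rfl⟩
  have h2 := two_E S
  have hbv : Bf S b v = 0 := by rw [hb, Bf_smul_left, ha, mul_zero]
  have hvb : Bf S v b = 0 := by rw [Bf_comm S]; exact hbv
  let L : (ι → F) →ₗ[E] (ι → F) := LinearMap.id + (Bl S v).smulRight b
    - ((Bl S b).smulRight v + (Bf S b b / 2) • (Bl S v).smulRight v)
  have hL : ∀ x, L x = x + Bf S x v • b - (Bf S x b + Bf S b b / 2 * Bf S x v) • v := fun x => by
    show x + Bf S x v • b - (Bf S x b • v + (Bf S b b / 2) • (Bf S x v • v)) = _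
    rw [smul_smul, add_smul]
  obtain ⟨g, hg, hgx⟩ := exists_sq_mem S L fun x => by
    simp only [hL, Bf_sub_left, Bf_sub_right, Bf_add_left, Bf_add_right, Bf_smul_left, Bf_smul_right, hv, hbv,
      hvb, Bf_comm S b x, Bf_comm S v x]
    field_simp
    ring
  refine ⟨g, hg, fun x => ?_⟩
  rw [hgx]
  simp only [hL, Bf_sub_left, Bf_add_left, Bf_smul_left, hv, hbv, hvb]
  rw [hb, Bf_smul_left, Bf_smul_right, Bf_smul_right]
  match_scalars <;> field_simp <;> ring

variable {S} in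
theorem IsT.fix {v a x : ι → F} {g : GL ι F} (h : IsT S v a g) (hxv : Bf S x v = 0) (hxa : Bf S x a = 0) :
    g ⋆ x = x := by rw [h, hxv, hxa]; simp

variable {S} in
theorem IsT.perp {v a x : ι → F} {g : GL ι F} (h : IsT S v a g) (hxv : Bf S x v = 0) :
    g ⋆ x = x - Bf S x a • v := by rw [h, hxv]; simp

variable {S} in
theorem IsT.fix_line {v a : ι → F} {g : GL ι F} (h : IsT S v a g) (hv : Bf S v v = 0) (ha : Bf S a v = 0) (p : E) :
    g ⋆ (p • v) = p • v :=
  h.fix (by rw [Bf_smul_left, hv, mul_zero]) (by rw [Bf_smul_left, Bf_comm S, ha, mul_zero])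

variable {S} in
theorem IsT.lin {v a : ι → F} {g : GL ι F} (h : IsT S v a g) (e : E) (x : ι → F) : g ⋆ (e • x) = e • (g ⋆ x) := by
  rw [h, h, Bf_smul_left, Bf_smul_left]
  match_scalars <;> ring

variable {S} in
theorem IsT.inv_apply {v a : ι → F} {g : GL ι F} (h : IsT S v a g) (hv : Bf S v v = 0) (ha : Bf S a v = 0)
    (x : ι → F) : g⁻¹ ⋆ x = x - Bf S x v • a + (Bf S x a - Bf S a a / 2 * Bf S x v) • v := by
  obtain ⟨y, hy⟩ : ∃ y, y = x - Bf S x v • a + (Bf S x a - Bf S a a / 2 * Bf S x v) • v := ⟨_, rfl⟩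
  rw [← hy]
  have hva : Bf S v a = 0 := by rw [Bf_comm S]; exact ha
  have hgy : g ⋆ y = x := by
    rw [h, hy]
    simp only [Bf_add_left, Bf_sub_left, Bf_smul_left, hv, ha, hva]
    match_scalars
    · ring
    · ring
    · have := two_E S
      field_simp
      ring
  rw [← hgy, gl_inv_mulVec]

/-- a singular line moved to one not orthogonal to it, linearly -/
theorem exists_to_lin {v f : ι → F} (hv : Bf S v v = 0) (hf : Bf S f f = 0) (hvf : Bf S v f ≠ 0) :
    ∃ m ∈ M, (∀ (e : E) (x : ι → F), m ⋆ (e • x) = e • (m ⋆ x)) ∧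
      ∃ ζ : E, ζ ≠ 0 ∧ ∀ p : E, m ⋆ (p • v) = (p * ζ) • f := by
  obtain ⟨f', hf'⟩ : ∃ f', f' = (Bf S v f)⁻¹ • f := ⟨_, rfl⟩
  have hff : Bf S f' f' = 0 := by rw [hf', Bf_smul_left, Bf_smul_right, hf, mul_zero, mul_zero]
  have hvf' : Bf S v f' = 1 := by rw [hf', Bf_smul_right, inv_mul_cancel₀ hvf]
  obtain ⟨a, ha, haa⟩ := exists_aniso_pperp S hv hff hvf'
  obtain ⟨hav, haf⟩ := (mem_pperp S).1 ha
  obtain ⟨b, hb⟩ : ∃ b, b = (2 / Bf S a a) • a := ⟨_, rfl⟩
  obtain ⟨g₁, hg₁, h₁⟩ := exists_T S hff haf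
  obtain ⟨g₂, hg₂, h₂⟩ := exists_T S hv (a := b) (by rw [hb, Bf_smul_left, hav, mul_zero])
  have h2 := two_E S
  refine ⟨g₂ * g₁, M.mul_mem hg₂ hg₁, fun e x => by rw [gl_mul_mulVec, gl_mul_mulVec, h₁.lin, h₂.lin],
    -(Bf S a a / 2) * (Bf S v f)⁻¹, ?_, ?_⟩
  · simp [haa, hvf, h2]
  · intro p
    rw [gl_mul_mulVec, h₁.lin, h₂.lin, ← smul_smul]
    congr 1
    rw [h₁, hvf', Bf_comm S v a, hav, h₂, ← smul_smul, ← hf']
    simp only [hb, Bf_add_left, Bf_sub_left, Bf_smul_left, Bf_smul_right, Bf_comm S f' v, hv, hvf', hav,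
      Bf_comm S v a, Bf_comm S f' a, haf]
    match_scalars <;> field_simp <;> ring

/-- a singular line moved to one not orthogonal to it -/
theorem exists_to {v f : ι → F} (hv : Bf S v v = 0) (hf : Bf S f f = 0) (hvf : Bf S v f ≠ 0) :
    ∃ m ∈ M, ∃ ζ : E, ζ ≠ 0 ∧ ∀ p : E, m ⋆ (p • v) = (p * ζ) • f := by
  obtain ⟨m, hm, -, h⟩ := exists_to_lin S hv hf hvf
  exact ⟨m, hm, h⟩

/-- a singular vector scaled by a square -/
theorem exists_scale {v : ι → F} (hv : Bf S v v = 0) (hv0 : v ≠ 0) {c : E} (hc : c ≠ 0) :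
    ∃ m ∈ M, ∀ p : E, m ⋆ (p • v) = (p * (c * c)) • v := by
  obtain ⟨f, -, hf, hvf⟩ := exists_partner S (nd_top S) Submodule.mem_top hv0 hv
  let R : (ι → F) → ((ι → F) →ₗ[E] (ι → F)) := fun a =>
    LinearMap.id - (2 / Bf S a a) • (Bl S a).smulRight a
  have hR : ∀ a x, R a x = x - (2 / Bf S a a * Bf S x a) • a := fun a x => by
    show x - (2 / Bf S a a) • (Bf S x a • a) = _
    rw [smul_smul]
  have hRi : ∀ a, Bf S a a ≠ 0 → ∀ x, Bf S (R a x) (R a x) = Bf S x x := fun a ha x => by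
    simp only [hR, Bf_sub_left, Bf_sub_right, Bf_smul_left, Bf_smul_right, Bf_comm S a x]
    field_simp
    ring
  have h2 := two_E S
  have hfv : Bf S f v = 1 := by rw [Bf_comm S]; exact hvf
  have hd : ∀ t : E, Bf S (v - t • f) (v - t • f) = -(2 * t) := fun t => by
    simp only [Bf_sub_left, Bf_sub_right, Bf_smul_left, Bf_smul_right, hv, hf, hvf, hfv]
    ring
  obtain ⟨g, hg, hgx⟩ := exists_sq_mem S ((R (v - f)).comp (R (v - c • f))) fun x => by
    rw [LinearMap.comp_apply, hRi _ (by rw [← one_smul E f, hd]; simp [h2]), hRi _ (by rw [hd]; simp [h2, hc])]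
  refine ⟨g, hg, fun p => ?_⟩
  have hLv : ((R (v - f)).comp (R (v - c • f))) v = c • v := by
    have hd1 := hd 1
    rw [one_smul] at hd1
    have e1 : R (v - c • f) v = c • f := by
      rw [hR, hd, Bf_sub_right, Bf_smul_right, hv, hvf]
      match_scalars <;> field_simp <;> ring
    have e2 : R (v - f) f = v := by
      rw [hR, hd1, Bf_sub_right, hf, hfv]
      match_scalars <;> field_simp <;> ring
    rw [LinearMap.comp_apply, e1, map_smul, e2]
  rw [hgx, map_smul, hLv, smul_smul, map_smul, hLv, smul_smul, mul_assoc]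

end CfsgLib.Perm.Trans.OrthExt
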