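import Cfsg.Agent.Lib.Perm.Trans.OrthExt.Base

/-!
# Overgroups over an extension field: the descent to a map fixing a hyperplane of a singular line

An element outside the semilinear group moves the line of some singular vector off the lines.  Among the elements
fixing a singular vector and moving its line, one with a largest fixed part of the line fixes a hyperplane of it:
otherwise either the line shows a subfield stabilising the fixed part, or the Chevalley–Warning theorem gives an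
Eichler transformation over `E` enlarging it.
-/

set_option autoImplicit false
set_option linter.all false

namespace CfsgLib.Perm.Trans.OrthExt

open scoped Matrix
open Matrix Module Cfsg.Geo CfsgLib.Perm.Asch CfsgLib.Perm.Trans CfsgLib.Perm.Trans.Quad
open CfsgLib.Perm.Trans.Symp.Ext (tr trDual trDual_apply tr_ext tr_smul_one exists_tr_separate)

variable {ι : Type} [Fintype ι] [DecidableEq ι] {F : Type*} [Field F] [Fintype F]
variable {E : Type*} [Field E] [Algebra F E] [FiniteDimensional F E]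
variable [Module E (ι → F)] [IsScalarTower F E (ι → F)]
variable {Q : (ι → F) → F}

local notation "pol" => QuadraticMap.polar
local notation:75 g " ⋆ " x:75 => (Units.val g : Matrix ι ι F) *ᵥ x

/-- `p ↦ p v` -/
def lineMap (v : ι → F) : E →ₗ[F] (ι → F) := (LinearMap.toSpanSingleton E (ι → F) v).restrictScalars F

/-- `p ↦ g (p v)` -/
def imgMap (g : GL ι F) (v : ι → F) : E →ₗ[F] (ι → F) :=
  (Matrix.toLin' (g : Matrix ι ι F)).comp (lineMap v)

theorem lineMap_apply (v : ι → F) (p : E) : lineMap v p = p • v := rfl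

theorem imgMap_apply (g : GL ι F) (v : ι → F) (p : E) : imgMap g v p = g ⋆ (p • v) := Matrix.toLin'_apply _ _

/-- the image of the line of `v` -/
def img (E : Type*) [Field E] [Algebra F E] [Module E (ι → F)] [IsScalarTower F E (ι → F)] (g : GL ι F)
    (v : ι → F) : Submodule F (ι → F) := LinearMap.range (imgMap (E := E) g v)

theorem mem_img {g : GL ι F} {v y : ι → F} : y ∈ img E g v ↔ ∃ p : E, g ⋆ (p • v) = y := by
  simp only [img, LinearMap.mem_range, imgMap_apply]

theorem img_self (g : GL ι F) (v : ι → F) (p : E) : g ⋆ (p • v) ∈ img E g v := mem_img.2 ⟨p, rfl⟩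

theorem finrank_img_le (g : GL ι F) (v : ι → F) : finrank F (img E g v) ≤ finrank F E := LinearMap.finrank_range_le _

/-- the part of the line of `v` fixed by `g` -/
def fixK (E : Type*) [Field E] [Algebra F E] [Module E (ι → F)] [IsScalarTower F E (ι → F)] (g : GL ι F)
    (v : ι → F) : Submodule F E := LinearMap.ker (imgMap g v - lineMap v)

theorem mem_fixK {g : GL ι F} {v : ι → F} {p : E} : p ∈ fixK E g v ↔ g ⋆ (p • v) = p • v := by
  rw [fixK, LinearMap.mem_ker, LinearMap.sub_apply, imgMap_apply, lineMap_apply, sub_eq_zero]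

/-- `g` moves the line of `v` -/
def Moves (E : Type*) [Field E] [Algebra F E] [Module E (ι → F)] (g : GL ι F) (v : ι → F) : Prop :=
  ∃ p : E, g ⋆ (p • v) ∉ Submodule.span E ({v} : Set (ι → F))

/-- if the conjugate keeps the line then `T` keeps its image -/
theorem keeps_img {g T : GL ι F} {v : ι → F} (h : ¬ Moves E (g⁻¹ * T * g) v) :
    ∀ z ∈ img E g v, T ⋆ z ∈ img E g v := by
  intro z hz
  obtain ⟨p, rfl⟩ := mem_img.1 hz
  rw [Moves] at h
  push Not at h
  obtain ⟨q, hq⟩ := Submodule.mem_span_singleton.1 (h p)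
  refine mem_img.2 ⟨q, ?_⟩
  rw [hq, gl_mul_mulVec, gl_mul_mulVec, gl_mulVec_inv]

variable {M : Subgroup (GL ι F)} (S : OData E Q M)
include S

theorem finrank_line_le (v : ι → F) :
    finrank F ↥((Submodule.span E ({v} : Set (ι → F))).restrictScalars F) ≤ finrank F E := by
  refine le_trans (Submodule.finrank_mono fun x hx => ?_) (LinearMap.finrank_range_le (lineMap (E := E) v))
  obtain ⟨p, rfl⟩ := Submodule.mem_span_singleton.1 hx
  exact ⟨p, rfl⟩

/-- a small subspace cannot hold a line and a vector outside it -/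
theorem not_line_le {v y : ι → F} (hv0 : v ≠ 0) (hy : y ∉ Submodule.span E ({v} : Set (ι → F)))
    {X : Submodule F (ι → F)} (hX : finrank F X ≤ finrank F E) (hyX : y ∈ X) (hline : ∀ p : E, p • v ∈ X) :
    False := by
  have hinj : Function.Injective (lineMap (E := E) v) := smul_left_injective E hv0
  have h1 : LinearMap.range (lineMap (E := E) v) < X := by
    refine lt_of_le_of_ne (fun z ⟨p, hp⟩ => hp ▸ hline p) fun h => hy ?_
    obtain ⟨p, hp⟩ := h ▸ hyX
    exact Submodule.mem_span_singleton.2 ⟨p, hp⟩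
  have h2 := Submodule.finrank_lt_finrank_of_lt h1
  rw [LinearMap.finrank_range_of_inj hinj] at h2
  omega

/-- the Eichler transformations at `u` cannot keep a small space in place -/
theorem absorb {u y : ι → F} {η : E} (hη : η ≠ 0) {W : Submodule E (ι → F)} {X : Submodule F (ι → F)}
    (h : ∀ a ∈ W, η • a - Bf S y a • u ∈ X) : finrank F E * finrank E W ≤ finrank F E + finrank F X := by
  haveI := finE S
  let Φ : W →ₗ[F] (ι → F) :=
    (((η • (LinearMap.id : (ι → F) →ₗ[E] (ι → F))) - (Bl S y).smulRight u).comp W.subtype).restrictScalars F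
  have hΦ : ∀ a : W, Φ a = η • (a : ι → F) - Bf S y a • u := fun a => by
    show η • (a : ι → F) - Bf S (a : ι → F) y • u = _
    rw [Bf_comm S (a : ι → F)]
  have h1 : finrank F (LinearMap.range Φ) ≤ finrank F X := Submodule.finrank_mono fun z ⟨a, ha⟩ => by
    rw [← ha, hΦ]
    exact h a a.2
  have h2 : finrank F (LinearMap.ker Φ) ≤ finrank F E := by
    let j : LinearMap.ker Φ →ₗ[F] ↥((Submodule.span E ({u} : Set (ι → F))).restrictScalars F) :=
      LinearMap.codRestrict _ (((W.subtype).restrictScalars F).comp (LinearMap.ker Φ).subtype) fun a => by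
        have := LinearMap.mem_ker.1 a.2
        rw [hΦ, sub_eq_zero] at this
        refine Submodule.mem_span_singleton.2 ⟨η⁻¹ * Bf S y ((a : W) : ι → F), ?_⟩
        rw [← smul_smul, ← this, smul_smul, inv_mul_cancel₀ hη, one_smul]
        rfl
    refine le_trans (LinearMap.finrank_le_finrank_of_injective (f := j) fun a b hab => ?_) (finrank_line_le S u)
    exact Subtype.ext (Subtype.ext (congrArg
      (fun z : ↥((Submodule.span E ({u} : Set (ι → F))).restrictScalars F) => (z : ι → F)) hab :))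
  have h3 := LinearMap.finrank_range_add_finrank_ker Φ
  rw [← finrank_mul_finrank F E W] at h3
  omega

theorem finrank_ker_Bl (u : ι → F) : finrank E (ι → F) ≤ finrank E (LinearMap.ker (Bl S u)) + 1 := by
  have h1 := finrank_inf_ker S ⊤ u
  rw [finrank_top] at h1
  rwa [top_inf_eq] at h1

variable {S} in
theorem IsT.double {u a a' y : ι → F} {T T' : GL ι F} (h : IsT S u a T) (h' : IsT S u a' T') (ha : a' = -a) :
    Bf S y u • a - Bf S y a • u = (2 : E)⁻¹ • ((T ⋆ y - y) - (T' ⋆ y - y)) := by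
  subst ha
  rw [h, h', Bf_neg_left, Bf_neg_right, Bf_neg_right]
  have := two_E S
  match_scalars <;> field_simp <;> ring

theorem half_mem {X : Submodule F (ι → F)} {z : ι → F} (h : z ∈ X) : (2 : E)⁻¹ • z ∈ X := by
  rw [show (2 : E)⁻¹ = algebraMap F E (2 : F)⁻¹ by rw [map_inv₀, map_ofNat], algebraMap_smul]
  exact X.smul_mem _ h

/-- Eichler transformations at a singular vector move any small space reaching off its line -/
theorem absorb_singular {x y : ι → F} (hx : Bf S x x = 0) (hx0 : x ≠ 0) {X : Submodule F (ι → F)}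
    (hX : finrank F X ≤ finrank F E) (hyX : y ∈ X) (hy : y ∉ Submodule.span E ({x} : Set (ι → F)))
    (hT : ∀ a, Bf S a x = 0 → ∀ T ∈ M, IsT S x a T → ∀ z ∈ X, T ⋆ z ∈ X) : False := by
  refine not_line_le S hx0 hy hX hyX fun p => ?_
  by_cases hη : Bf S y x = 0
  · obtain ⟨a, ha, hya⟩ := exists_sep_line S hy
    obtain ⟨T, hT', hTa⟩ := exists_T S hx (a := p • a) (by rw [Bf_smul_left, ha, mul_zero])
    have h1 := hT _ (by rw [Bf_smul_left, ha, mul_zero]) T hT' hTa y hyX
    rw [hTa.perp hη, Bf_smul_right, hya, mul_one] at h1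
    have h2 := X.sub_mem hyX h1
    rwa [sub_sub_cancel] at h2
  -- twice the displacement of `y` lies on the line
  obtain ⟨f, -, hf, hxf⟩ := exists_partner S (nd_top S) Submodule.mem_top hx0 hx
  obtain ⟨a, ha, haa⟩ := exists_aniso_pperp S hx hf hxf
  obtain ⟨hax, haf⟩ := (mem_pperp S).1 ha
  have hsq : ∀ c : E, (c * c * Bf S a a * Bf S y x) • x ∈ X := fun c => by
    have hcx : Bf S (c • a) x = 0 := by rw [Bf_smul_left, hax, mul_zero]
    obtain ⟨T, hT', hTa⟩ := exists_T S hx hcx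
    have h1 := hT _ hcx T hT' hTa y hyX
    have h2 := hT _ hcx T hT' hTa _ h1
    have h3 := X.sub_mem (X.sub_mem h1 hyX) (X.sub_mem h2 h1)
    have h4 : Bf S (T ⋆ y) x = Bf S y x := by
      rw [hTa]; simp [Bf_sub_left, Bf_add_left, Bf_smul_left, hax, hx]
    have h5 : T ⋆ y - y - (T ⋆ (T ⋆ y) - T ⋆ y) = (c * c * Bf S a a * Bf S y x) • x := by
      rw [hTa (T ⋆ y), h4]
      conv_lhs => rw [hTa y]
      simp only [Bf_sub_left, Bf_add_left, Bf_smul_left, Bf_smul_right, Bf_comm S x a, hax, mul_zero]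
      match_scalars <;> ring
    rwa [h5] at h3
  obtain ⟨k, hk⟩ : ∃ k, k = p / (Bf S a a * Bf S y x) := ⟨_, rfl⟩
  have h6 := X.smul_mem (4 : F)⁻¹ (X.sub_mem (hsq (k + 1)) (hsq (k - 1)))
  have h4 : (4 : E) ≠ 0 := by
    rw [show (4 : E) = 2 * 2 by norm_num]
    exact mul_ne_zero (two_E S) (two_E S)
  rw [← sub_smul, ← algebraMap_smul E (4 : F)⁻¹, smul_smul, map_inv₀, map_ofNat] at h6
  convert h6 using 2
  rw [hk]
  field_simp
  ring

/-- a map keeping the lines of singular vectors is semilinear -/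
theorem exists_bad {g : GL ι F} (hn : ¬ ∀ e : E, ∃ e' : E, ∀ x, g ⋆ (e • x) = e' • (g ⋆ x)) :
    ∃ (v : ι → F) (e : E), v ≠ 0 ∧ Bf S v v = 0 ∧ g ⋆ (e • v) ∉ Submodule.span E ({g ⋆ v} : Set (ι → F)) := by
  haveI := finE S
  haveI : Finite E := Module.finite_of_finite F
  by_contra hcon
  push Not at hcon
  have hc : ∀ (v : ι → F) (e : E), ∃ c : E, Bf S v v = 0 → v ≠ 0 → c • (g ⋆ v) = g ⋆ (e • v) := by
    intro v e
    by_cases h : Bf S v v = 0 ∧ v ≠ 0
    · obtain ⟨c, hc⟩ := Submodule.mem_span_singleton.1 (hcon v e h.2 h.1)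
      exact ⟨c, fun _ _ => hc⟩
    · exact ⟨0, fun h1 h2 => absurd ⟨h1, h2⟩ h⟩
  choose c hc using hc
  -- three independent singular vectors have independent images
  have hind : ∀ u v w : ι → F, Bf S u u = 0 → Bf S v v = 0 → Bf S w w = 0 → u ≠ 0 → v ≠ 0 → w ≠ 0 →
      (∀ a b d : E, a • u + b • v + d • w = 0 → a = 0 ∧ b = 0 ∧ d = 0) →
      ∀ a b d : E, a • (g ⋆ u) + b • (g ⋆ v) + d • (g ⋆ w) = 0 → a = 0 ∧ b = 0 ∧ d = 0 := by
    intro u v w hu hv hw hu0 hv0 hw0 hli a b d h
    let f : E × E × E → E × E × E := fun t => (c u t.1, c v t.2.1, c w t.2.2)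
    have hg : ∀ t : E × E × E, g ⋆ (t.1 • u + t.2.1 • v + t.2.2 • w) =
        (f t).1 • (g ⋆ u) + (f t).2.1 • (g ⋆ v) + (f t).2.2 • (g ⋆ w) := fun t => by
      rw [mulVec_add, mulVec_add, hc u _ hu hu0, hc v _ hv hv0, hc w _ hw hw0]
    have hf : Function.Injective f := fun t t' htt => by
      have h1 := hg t
      rw [htt, ← hg] at h1
      have h2 := Matrix.mulVec_injective_of_isUnit (Units.isUnit g) h1
      obtain ⟨e1, e2, e3⟩ := hli (t.1 - t'.1) (t.2.1 - t'.2.1) (t.2.2 - t'.2.2) (by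
        rw [sub_smul, sub_smul, sub_smul,
          show t.1 • u - t'.1 • u + (t.2.1 • v - t'.2.1 • v) + (t.2.2 • w - t'.2.2 • w) =
            (t.1 • u + t.2.1 • v + t.2.2 • w) - (t'.1 • u + t'.2.1 • v + t'.2.2 • w) by abel, h2, sub_self])
      exact Prod.ext (sub_eq_zero.1 e1) (Prod.ext (sub_eq_zero.1 e2) (sub_eq_zero.1 e3))
    obtain ⟨t, ht⟩ := (Finite.injective_iff_surjective.1 hf) (a, b, d)
    have h1 := hg t
    rw [ht, h] at h1
    obtain ⟨e1, e2, e3⟩ := hli _ _ _ (gl_mulVec_eq_zero.1 h1)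
    have hz : ∀ z : ι → F, Bf S z z = 0 → z ≠ 0 → c z 0 = 0 := fun z hz hz0 => by
      have h2 := hc z 0 hz hz0
      rw [zero_smul, mulVec_zero, smul_eq_zero] at h2
      exact h2.resolve_right fun h3 => hz0 (gl_mulVec_eq_zero.1 h3)
    have e : t = (0, 0, 0) := Prod.ext e1 (Prod.ext e2 e3)
    rw [e] at ht
    simp only [f, hz u hu hu0, hz v hv hv0, hz w hw hw0, Prod.mk.injEq] at ht
    exact ⟨ht.1.symm, ht.2.1.symm, ht.2.2.symm⟩
  -- two singular vectors in general position with a suitable third one have the same multipliers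
  have key0 : ∀ (v w a : ι → F), Bf S v v = 0 → Bf S w w = 0 → Bf S v w ≠ 0 → Bf S a v = 0 → Bf S a w = 0 →
      Bf S a a = -(2 * Bf S v w) → ∀ e, c v e = c w e := by
    intro v w a hv hw hvw hav haw haa e
    haveI : Fintype E := Fintype.ofFinite E
    have h2 := two_E S
    have hv0 : v ≠ 0 := fun h => hvw (by rw [h, Bf_zero_left])
    have hw0 : w ≠ 0 := fun h => hvw (by rw [h, Bf_zero_right])
    have haa0 : Bf S a a ≠ 0 := by rw [haa]; simp [h2, hvw]
    have hva : Bf S v a = 0 := by rw [Bf_comm S]; exact hav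
    have hwa : Bf S w a = 0 := by rw [Bf_comm S]; exact haw
    have hwv : Bf S w v = Bf S v w := Bf_comm S w v
    obtain ⟨s, hs⟩ : ∃ s, s = v + w + a := ⟨_, rfl⟩
    obtain ⟨s', hs'⟩ : ∃ s', s' = v + w - a := ⟨_, rfl⟩
    have hss : Bf S s s = 0 := by
      simp only [hs, Bf_add_left, Bf_add_right, hv, hw, hva, hav, hwa, haw, hwv, haa]; ring
    have hss' : Bf S s' s' = 0 := by
      simp only [hs', Bf_sub_left, Bf_sub_right, Bf_add_left, Bf_add_right, hv, hw, hva, hav, hwa, haw, hwv, haa]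
      ring
    have hs0 : s ≠ 0 := fun h => haa0 (by
      have := congrArg (fun z => Bf S z a) h
      simpa only [hs, Bf_add_left, hva, hwa, zero_add, Bf_zero_left] using this)
    have hs0' : s' ≠ 0 := fun h => haa0 (by
      have := congrArg (fun z => Bf S z a) h
      simpa only [hs', Bf_sub_left, Bf_add_left, hva, hwa, zero_add, zero_sub, neg_eq_zero, Bf_zero_left] using this)
    have hli : ∀ p q t : E, p • v + q • w + t • s = 0 → p = 0 ∧ q = 0 ∧ t = 0 := fun p q t h => by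
      have ea := congrArg (fun z => Bf S z a) h
      have ev := congrArg (fun z => Bf S z v) h
      have ew := congrArg (fun z => Bf S z w) h
      simp only [hs, Bf_add_left, Bf_smul_left, hv, hw, hva, hav, hwa, haw, hwv, Bf_zero_left, mul_zero, zero_add,
        add_zero] at ea ev ew
      have et : t = 0 := (mul_eq_zero.1 ea).resolve_right haa0
      subst et
      simp only [zero_mul, add_zero] at ev ew
      exact ⟨(mul_eq_zero.1 ew).resolve_right hvw, (mul_eq_zero.1 ev).resolve_right hvw, rfl⟩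
    have hsum : s' = (2 : F) • v + (2 : F) • w - s := by rw [hs, hs', two_smul, two_smul]; abel
    have h5 : g ⋆ (e • s') = (2 : F) • (g ⋆ (e • v)) + (2 : F) • (g ⋆ (e • w)) - g ⋆ (e • s) := by
      rw [hsum, smul_sub, smul_add, smul_comm e (2 : F) v, smul_comm e (2 : F) w, mulVec_sub, mulVec_add,
        mulVec_smul, mulVec_smul]
    have h6 : g ⋆ s' = (2 : F) • (g ⋆ v) + (2 : F) • (g ⋆ w) - g ⋆ s := by
      rw [hsum, mulVec_sub, mulVec_add, mulVec_smul, mulVec_smul]
    rw [← hc v e hv hv0, ← hc w e hw hw0, ← hc s e hss hs0, ← hc s' e hss' hs0', h6, ← algebraMap_smul E (2 : F),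
      ← algebraMap_smul E (2 : F), ← algebraMap_smul E (2 : F), ← algebraMap_smul E (2 : F), map_ofNat] at h5
    obtain ⟨ev, ew, -⟩ := hind v w s hv hw hss hv0 hw0 hs0 hli (2 * (c v e - c s' e)) (2 * (c w e - c s' e))
      (c s' e - c s e) (by
        rw [← sub_eq_zero] at h5
        rw [← neg_eq_zero]
        refine Eq.trans ?_ h5
        module)
    have e1 := sub_eq_zero.1 ((mul_eq_zero.1 ev).resolve_left h2)
    have e2 := sub_eq_zero.1 ((mul_eq_zero.1 ew).resolve_left h2)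
    rw [e1, e2]
  -- two singular vectors in general position have the same multipliers
  have key : ∀ (v w : ι → F), Bf S v v = 0 → Bf S w w = 0 → Bf S v w ≠ 0 → ∀ e, c v e = c w e := by
    intro v w hv hw hvw e
    have h2 := two_E S
    obtain ⟨w', hw'⟩ : ∃ w', w' = (Bf S v w)⁻¹ • w := ⟨_, rfl⟩
    have hww : Bf S w' w' = 0 := by rw [hw', Bf_smul_left, Bf_smul_right, hw, mul_zero, mul_zero]
    have hvw' : Bf S v w' = 1 := by rw [hw', Bf_smul_right, inv_mul_cancel₀ hvw]
    obtain ⟨a₁, ha₁, haa₁⟩ := exists_aniso_pperp S hv hww hvw'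
    obtain ⟨h1v, h1w'⟩ := (mem_pperp S).1 ha₁
    have h1w : Bf S a₁ w = 0 := by
      rw [show w = Bf S v w • w' by rw [hw', smul_smul, mul_inv_cancel₀ hvw, one_smul], Bf_smul_right, h1w', mul_zero]
    obtain ⟨s₀, hs₀⟩ : ∃ s₀, s₀ = -(Bf S a₁ a₁ / (2 * Bf S v w)) := ⟨_, rfl⟩
    have hs0 : s₀ ≠ 0 := by rw [hs₀]; simp [haa₁, h2, hvw]
    have hv0 : v ≠ 0 := fun h => hvw (by rw [h, Bf_zero_left])
    obtain ⟨u, hu⟩ : ∃ u, u = s₀ • v := ⟨_, rfl⟩
    have huu : Bf S u u = 0 := by rw [hu, Bf_smul_left, Bf_smul_right, hv, mul_zero, mul_zero]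
    have hu0 : u ≠ 0 := hu ▸ smul_ne_zero hs0 hv0
    have hsame : ∀ t : E, t ≠ 0 → ∀ e, c ((t * t) • u) e = c w e := fun t ht e => by
      refine key0 _ w (t • a₁) (by rw [Bf_smul_left, Bf_smul_right, huu, mul_zero, mul_zero]) hw ?_
        (by rw [hu, Bf_smul_left, Bf_smul_right, Bf_smul_right, h1v, mul_zero, mul_zero, mul_zero])
        (by rw [Bf_smul_left, h1w, mul_zero]) ?_ e
      · rw [hu, Bf_smul_left, Bf_smul_left]
        exact mul_ne_zero (mul_ne_zero ht ht) (mul_ne_zero hs0 hvw)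
      · rw [hu, Bf_smul_left, Bf_smul_left, Bf_smul_left, Bf_smul_right, hs₀]
        field_simp
    have hcu : ∀ e, c u e = c w e := fun e => by
      have := hsame 1 one_ne_zero e
      rwa [one_mul, one_smul] at this
    have hgu : g ⋆ u ≠ 0 := fun h => hu0 (gl_mulVec_eq_zero.1 h)
    have hsqm : ∀ e t, c u (e * (t * t)) = c u e * c u (t * t) := fun e t => by
      apply smul_left_injective E hgu
      show c u (e * (t * t)) • (g ⋆ u) = (c u e * c u (t * t)) • (g ⋆ u)
      rw [mul_smul (c u e), hc u (t * t) huu hu0, hc u _ huu hu0, mul_smul e]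
      by_cases ht : t = 0
      · subst ht; simp
      rw [← hc ((t * t) • u) e (by rw [Bf_smul_left, Bf_smul_right, huu, mul_zero, mul_zero])
        (smul_ne_zero (mul_ne_zero ht ht) hu0), hsame t ht, hcu]
    have hcadd : ∀ x y, c u (x + y) = c u x + c u y := fun x y => by
      apply smul_left_injective E hgu
      show c u (x + y) • (g ⋆ u) = (c u x + c u y) • (g ⋆ u)
      rw [hc u _ huu hu0, add_smul (c u x), hc u x huu hu0, hc u y huu hu0, add_smul, mulVec_add]
    have hmul : ∀ e s, c u (e * s) = c u e * c u s := fun e s => by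
      obtain ⟨k, hk⟩ : ∃ k, k = s := ⟨_, rfl⟩
      obtain ⟨C, hC⟩ : ∃ C : E →+ E, ∀ x, C x = c u x := ⟨AddMonoidHom.mk' (c u) hcadd, fun _ => rfl⟩
      have h4 : (4 : E) ≠ 0 := by
        rw [show (4 : E) = 2 * 2 by norm_num]
        exact mul_ne_zero h2 h2
      obtain ⟨a, ha⟩ : ∃ a, a = s / 4 + 1 := ⟨_, rfl⟩
      obtain ⟨b, hb⟩ : ∃ b, b = s / 4 - 1 := ⟨_, rfl⟩
      have hs : s = a * a - b * b := by rw [ha, hb]; field_simp; ring
      rw [hs, mul_sub, ← hC, ← hC (a * a - b * b), map_sub, map_sub, hC, hC, hC, hC, hsqm, hsqm, mul_sub]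
    have hvu : v = s₀⁻¹ • u := by rw [hu, smul_smul, inv_mul_cancel₀ hs0, one_smul]
    have hgv : g ⋆ v = c u s₀⁻¹ • (g ⋆ u) := by rw [hc u _ huu hu0, ← hvu]
    have hc0 : c u s₀⁻¹ ≠ 0 := fun h => hv0 (gl_mulVec_eq_zero.1 (by rw [hgv, h, zero_smul]))
    rw [← hcu e]
    apply smul_left_injective E hgu
    apply smul_right_injective (ι → F) hc0
    show c u s₀⁻¹ • (c v e • (g ⋆ u)) = c u s₀⁻¹ • (c u e • (g ⋆ u))
    rw [smul_comm, ← hgv, hc v e hv hv0, smul_smul, ← hmul, hc u _ huu hu0, hvu, smul_smul, mul_comm]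
  -- all multipliers agree
  obtain ⟨v₀, -, f₀, -, hv₀, hf₀, hvf₀⟩ := exists_pairE S (nd_top S) (by
    rw [finrank_top]
    exact S.three)
  have hv₀0 : v₀ ≠ 0 := fun h => by rw [h, Bf_zero_left] at hvf₀; exact zero_ne_one hvf₀
  refine hn fun e => ⟨c v₀ e, fun x => ?_⟩
  let S' : Submodule F (ι → F) :=
    { carrier := {x | g ⋆ (e • x) = c v₀ e • (g ⋆ x)}
      zero_mem' := by simp
      add_mem' := fun {a b} ha hb => by
        show _ = _
        rw [smul_add, mulVec_add, mulVec_add, ha, hb, smul_add]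
      smul_mem' := fun t a ha => by
        show _ = _
        rw [smul_comm e t a, mulVec_smul, mulVec_smul, ha, smul_comm] }
  show x ∈ S'
  refine le_of_singularE S (W := ⊤) Submodule.mem_top Submodule.mem_top hv₀ hf₀ hvf₀ (fun z _ hz => ?_)
    Submodule.mem_top
  rcases eq_or_ne z 0 with rfl | hz0
  · exact S'.zero_mem
  show g ⋆ (e • z) = c v₀ e • (g ⋆ z)
  rw [← hc z e hz hz0]
  congr 1
  by_cases hvz : Bf S v₀ z = 0
  swap
  · exact (key v₀ z hv₀ hz hvz e).symm
  obtain ⟨y₁, hy₁⟩ := Bf_nondeg S hz0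
  obtain ⟨y, hvy, hzy⟩ : ∃ y, Bf S v₀ y ≠ 0 ∧ Bf S z y ≠ 0 := by
    by_cases ha : Bf S v₀ y₁ = 0
    · by_cases hb : Bf S z f₀ = 0
      · exact ⟨y₁ + f₀, by rw [Bf_add_right, ha, zero_add, hvf₀]; exact one_ne_zero,
          by rw [Bf_add_right, hb, add_zero]; exact hy₁⟩
      · exact ⟨f₀, by rw [hvf₀]; exact one_ne_zero, hb⟩
    · exact ⟨y₁, ha, hy₁⟩
  obtain ⟨z', hz'⟩ : ∃ z', z' = y - (Bf S y y / (2 * Bf S v₀ y)) • v₀ := ⟨_, rfl⟩
  have hzz' : Bf S z' z' = 0 := by
    simp only [hz', Bf_sub_left, Bf_sub_right, Bf_smul_left, Bf_smul_right, hv₀, Bf_comm S y v₀]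
    have := two_E S
    field_simp
    ring
  rw [key v₀ z' hv₀ hzz' (by rw [hz', Bf_sub_right, Bf_smul_right, hv₀, mul_zero, sub_zero]; exact hvy) e,
    key z z' hz hzz' (by
      rw [hz', Bf_sub_right, Bf_smul_right, Bf_comm S z v₀, hvz, mul_zero, sub_zero]; exact hzy) e]

/-- a map fixing a singular vector and moving its line -/
theorem exists_start (hl : 4 ≤ finrank E (ι → F)) {g : GL ι F} (hg : g ∈ M) {v : ι → F} {e : E} (hv : Bf S v v = 0)
    (hv0 : v ≠ 0) (hbad : g ⋆ (e • v) ∉ Submodule.span E ({g ⋆ v} : Set (ι → F))) :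
    ∃ g' ∈ M, g' ⋆ v = v ∧ Moves E g' v := by
  haveI := finE S
  by_contra hcon
  push Not at hcon
  have hkeep : ∀ T ∈ M, T ⋆ (g ⋆ v) = g ⋆ v → ∀ z ∈ img E g v, T ⋆ z ∈ img E g v := fun T hT hTx =>
    keeps_img (hcon _ (M.mul_mem (M.mul_mem (M.inv_mem hg) hT) hg)
      (by rw [gl_mul_mulVec, gl_mul_mulVec, hTx, gl_inv_mulVec]))
  obtain ⟨x, hx⟩ : ∃ x, x = g ⋆ v := ⟨_, rfl⟩
  obtain ⟨y, hy⟩ : ∃ y, y = g ⋆ (e • v) := ⟨_, rfl⟩
  rw [← hx, ← hy] at hbad
  rw [← hx] at hkeep
  have hyX : y ∈ img E g v := hy ▸ img_self g v e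
  have hx0 : x ≠ 0 := fun h => hv0 (gl_mulVec_eq_zero.1 (hx ▸ h))
  by_cases hxx : Bf S x x = 0
  · exact absorb_singular S hxx hx0 (finrank_img_le g v) hyX hbad fun a ha T hT hTa =>
      hkeep T hT (hTa.fix hxx (by rw [Bf_comm S, ha]))
  obtain ⟨y₀, hy₀⟩ : ∃ y₀, y₀ = y - (Bf S y x / Bf S x x) • x := ⟨_, rfl⟩
  have hy₀x : Bf S y₀ x = 0 := by rw [hy₀, Bf_sub_left, Bf_smul_left, div_mul_cancel₀ _ hxx, sub_self]
  obtain ⟨u, hu, huu, hyu⟩ : ∃ u ∈ LinearMap.ker (Bl S x), Bf S u u = 0 ∧ Bf S y₀ u ≠ 0 := by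
    by_contra hc'
    push Not at hc'
    obtain ⟨a, ha, b, hb, haa, hbb, hab⟩ := exists_pairE S (nd_of_anisotropic S hxx) (by
      have := finrank_ker_Bl S x
      have := hl
      omega)
    have hy₀0 : y₀ ≠ 0 := fun h => hbad (Submodule.mem_span_singleton.2 ⟨Bf S y x / Bf S x x,
      (sub_eq_zero.1 (hy₀ ▸ h)).symm⟩)
    obtain ⟨z, hz, hyz⟩ := nd_of_anisotropic S hxx y₀ hy₀x hy₀0
    have h1 := le_of_singularE S (S' := (LinearMap.ker (Bl S y₀)).restrictScalars F) ha hb haa hbb hab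
      (fun w hw hww => by
        show Bf S w y₀ = 0
        rw [Bf_comm S]
        exact hc' w hw hww) hz
    exact hyz (by rw [Bf_comm S]; exact h1)
  have hux : Bf S u x = 0 := hu
  have hxu : Bf S x u = 0 := by rw [Bf_comm S]; exact hux
  have hyu' : Bf S y u ≠ 0 := by
    rw [hy₀, Bf_sub_left, Bf_smul_left, hxu, mul_zero, sub_zero] at hyu
    exact hyu
  obtain ⟨X', hX'⟩ : ∃ X', X' = img E g v ⊓ (LinearMap.ker (Bl S u)).restrictScalars F := ⟨_, rfl⟩
  have hlt : finrank F X' < finrank F E := lt_of_lt_of_le (Submodule.finrank_lt_finrank_of_lt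
    (lt_of_le_of_ne (hX' ▸ inf_le_left) fun h => hyu' (show y ∈ LinearMap.ker (Bl S u) from
      (hX' ▸ h ▸ hyX : y ∈ img E g v ⊓ (LinearMap.ker (Bl S u)).restrictScalars F).2))) (finrank_img_le g v)
  have h1 := absorb S (u := u) (y := y) hyu' (W := LinearMap.ker (Bl S x) ⊓ LinearMap.ker (Bl S u)) (X := X')
    fun a ha => by
      have hax : Bf S a x = 0 := ha.1
      have hau : Bf S a u = 0 := ha.2
      have hna : Bf S (-a) u = 0 := by rw [Bf_neg_left, hau, neg_zero]
      obtain ⟨T, hTM, hTa⟩ := exists_T S huu hau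
      obtain ⟨T', hTM', hTa'⟩ := exists_T S huu hna
      have hfix : ∀ (b : ι → F) (T : GL ι F), IsT S u b T → Bf S b x = 0 → T ⋆ x = x := fun b T hb hbx =>
        hb.fix hxu (by rw [Bf_comm S]; exact hbx)
      rw [hX']
      refine ⟨?_, ?_⟩
      · rw [hTa.double (y := y) hTa' rfl]
        exact half_mem S (Submodule.sub_mem _ (Submodule.sub_mem _ (hkeep T hTM (hfix a T hTa hax) y hyX) hyX)
          (Submodule.sub_mem _ (hkeep T' hTM' (hfix (-a) T' hTa' (by rw [Bf_neg_left, hax, neg_zero])) y hyX) hyX))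
      · show Bf S (Bf S y u • a - Bf S y a • u) u = 0
        rw [Bf_sub_left, Bf_smul_left, Bf_smul_left, hau, huu, mul_zero, mul_zero, sub_zero]
  have h2 := finrank_ker_Bl S x
  have h3 := finrank_inf_ker S (LinearMap.ker (Bl S x)) u
  have h4 := hl
  have h5 : finrank F E * 2 ≤ finrank F E * finrank E ↥(LinearMap.ker (Bl S x) ⊓ LinearMap.ker (Bl S u)) :=
    Nat.mul_le_mul_left _ (by omega)
  omega

/-- `g` fixes the hyperplane of the line of `v` given by `ρ` and moves the line -/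
structure Hyp (g : GL ι F) (v : ι → F) (ρ : E) : Prop where
  mem : g ∈ M
  v0 : v ≠ 0
  vv : Bf S v v = 0
  ρ0 : ρ ≠ 0
  tr_ρ : tr F E ρ = 0
  fix : ∀ p : E, tr F E (p * ρ) = 0 → g ⋆ (p • v) = p • v
  moves : Moves E g v

/-- a largest fixed part of a line is a hyperplane of it -/
theorem exists_hyp (hl : 4 ≤ finrank E (ι → F)) {g₀ : GL ι F} (hg₀ : g₀ ∈ M) {v : ι → F} (hv : Bf S v v = 0) (hv0 : v ≠ 0)
    (hfix : g₀ ⋆ v = v) (hmov : Moves E g₀ v) : ∃ (g : GL ι F) (ρ : E), Hyp S g v ρ := by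
  classical
  haveI := finE S
  haveI : Finite (GL ι F) := inferInstance
  obtain ⟨g, ⟨hg, hgv, hgm⟩, hmax⟩ := Set.Finite.exists_maximalFor (fun g => finrank F (fixK E g v))
    {g : GL ι F | g ∈ M ∧ g ⋆ v = v ∧ Moves E g v} (Set.toFinite _) ⟨g₀, hg₀, hfix, hmov⟩
  obtain ⟨K, hK⟩ : ∃ K, K = fixK E g v := ⟨_, rfl⟩
  -- the elements fixing the part `K` have no more
  let Max : GL ι F → Prop := fun g' => g' ∈ M ∧ Moves E g' v ∧ K ≤ fixK E g' v
  have h1K : (1 : E) ∈ K := hK ▸ mem_fixK.2 (by rw [one_smul, hgv])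
  have hfe : ∀ g', Max g' → fixK E g' v = K := fun g' ⟨h1, h2, h3⟩ => by
    refine (Submodule.eq_of_le_of_finrank_le h3 ?_).symm
    have hv' : g' ⋆ v = v := by
      have := mem_fixK.1 (h3 h1K)
      rwa [one_smul] at this
    rcases le_total (finrank F (fixK E g' v)) (finrank F (fixK E g v)) with h | h
    · rw [hK]; exact h
    · rw [hK]; exact hmax ⟨h1, hv', h2⟩ h
  have hTv : ∀ {a : ι → F} {T : GL ι F}, IsT S v a T → Bf S a v = 0 → ∀ p : E, T ⋆ (p • v) = p • v :=
    fun h ha p => h.fix_line hv ha p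
  -- conjugates by Eichler transformations fixing more keep the image
  have hkeep : ∀ g', Max g' → ∀ {a : ι → F} {T : GL ι F}, T ∈ M → IsT S v a T → Bf S a v = 0 →
      ∀ p₀, p₀ ∉ K → T ⋆ (g' ⋆ (p₀ • v)) = g' ⋆ (p₀ • v) → ∀ z ∈ img E g' v, T ⋆ z ∈ img E g' v := by
    intro g' hg' a T hT hTa ha p₀ hp₀ hfx
    refine keeps_img fun hmv => hp₀ ?_
    have hM' : Max (g'⁻¹ * T * g') := ⟨M.mul_mem (M.mul_mem (M.inv_mem hg'.1) hT) hg'.1, hmv, fun k hk => by
      have h1 := mem_fixK.1 (hg'.2.2 hk)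
      refine mem_fixK.2 ?_
      rw [gl_mul_mulVec, gl_mul_mulVec, h1, hTv hTa ha]
      nth_rewrite 1 [← h1]
      rw [gl_inv_mulVec]⟩
    rw [← hfe _ hM']
    refine mem_fixK.2 ?_
    rw [gl_mul_mulVec, gl_mul_mulVec, hfx, gl_inv_mulVec]
  -- only the fixed part comes back to the line
  have hL1 : ∀ g', Max g' → ∀ p, g' ⋆ (p • v) ∈ Submodule.span E ({v} : Set (ι → F)) → p ∈ K := by
    intro g' hg' p hp
    by_contra hpK
    obtain ⟨p₁, hp₁⟩ := hg'.2.1
    refine absorb_singular S hv hv0 (finrank_img_le g' v) (img_self g' v p₁) hp₁ fun a ha T hT hTa => ?_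
    obtain ⟨t, ht⟩ := Submodule.mem_span_singleton.1 hp
    exact hkeep g' hg' hT hTa ha p hpK (by rw [← ht, hTv hTa ha])
  have fin : ∀ p₀, p₀ ∉ K → (∀ q, ∃ t : F, q - t • p₀ ∈ K) → ∃ (g : GL ι F) (ρ : E), Hyp S g v ρ := by
    intro p₀ hp₀ hq
    obtain ⟨φ, hφ, hφK⟩ := Submodule.exists_dual_map_eq_bot_of_notMem hp₀ inferInstance
    have hK0 : ∀ k ∈ K, φ k = 0 := fun k hk => (Submodule.eq_bot_iff _).1 hφK _ ⟨k, hk, rfl⟩
    refine ⟨g, (trDual F E).symm φ, hg, hv0, hv, fun h0 => hφ ?_, ?_, fun p hp => ?_, hgm⟩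
    · rw [LinearEquiv.map_eq_zero_iff] at h0
      rw [h0, LinearMap.zero_apply]
    · rw [← one_mul ((trDual F E).symm φ), ← trDual_apply, LinearEquiv.apply_symm_apply, hK0 1 h1K]
    · rw [← trDual_apply, LinearEquiv.apply_symm_apply] at hp
      obtain ⟨t, ht⟩ := hq p
      have := hK0 _ ht
      rw [map_sub, map_smul, hp, zero_sub, neg_eq_zero, smul_eq_mul, mul_eq_zero] at this
      rw [this.resolve_right hφ, zero_smul, sub_zero, hK] at ht
      exact mem_fixK.1 ht
  -- the case of a pairing zero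
  have lam : ∀ g', Max g' → (∀ p : E, Bf S (g' ⋆ (p • v)) v = 0) → ∃ (g : GL ι F) (ρ : E), Hyp S g v ρ := by
    intro g' hg' hP
    obtain ⟨p₀, hp₀⟩ := hg'.2.1
    have hp₀K : p₀ ∉ K := fun h => hp₀ (by
      rw [mem_fixK.1 (hg'.2.2 h)]; exact Submodule.smul_mem _ _ (Submodule.mem_span_singleton_self v))
    obtain ⟨d, hd⟩ : ∃ d, d = g' ⋆ (p₀ • v) := ⟨_, rfl⟩
    rw [← hd] at hp₀
    have hline : ∀ q : E, g' ⋆ (q • v) ∈ Submodule.span E ({v, d} : Set (ι → F)) := by
      intro q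
      by_contra hq
      obtain ⟨a, ha, hqa⟩ := exists_sep S hq
      have hav : Bf S a v = 0 := by rw [Bf_comm S]; exact ha v (Submodule.subset_span (by simp))
      refine not_line_le S hv0 hp₀ (finrank_img_le g' v) (hd ▸ img_self g' v p₀) fun c => ?_
      have hca : Bf S (c • a) v = 0 := by rw [Bf_smul_left, hav, mul_zero]
      obtain ⟨T, hT, hTa⟩ := exists_T S hv hca
      have h1 := hkeep g' hg' hT hTa hca p₀ hp₀K (hTa.fix (hP p₀) (by
        rw [← hd, Bf_smul_right, ha d (Submodule.subset_span (by simp)), mul_zero])) _ (img_self g' v q)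
      rw [hTa.perp (hP q), Bf_smul_right, hqa, mul_one] at h1
      have h2 := Submodule.sub_mem _ (img_self g' v q) h1
      rwa [sub_sub_cancel] at h2
    obtain ⟨a, hav, hda⟩ := exists_sep_line S hp₀
    let lf : E → E := fun q => Bf S (g' ⋆ (q • v)) a
    have hl0 : ∀ q, lf q = 0 → q ∈ K := fun q hq => hL1 g' hg' q (by
      obtain ⟨α, β, hab⟩ := Submodule.mem_span_pair.1 (hline q)
      have h : lf q = β := by
        show Bf S _ a = β
        rw [← hab, Bf_add_left, Bf_smul_left, Bf_smul_left, Bf_comm S v, hav, hda]; ring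
      rw [← hab, show β = 0 from h.symm.trans hq, zero_smul, add_zero]
      exact Submodule.smul_mem _ _ (Submodule.mem_span_singleton_self v))
    have hstab : ∀ c q q', c * lf q ∈ K → q ∉ K → c ≠ 0 → c * lf q' ∈ K := by
      intro c q q' hk hq hc
      have hca : Bf S (c • a) v = 0 := by rw [Bf_smul_left, hav, mul_zero]
      obtain ⟨T, hT, hTa⟩ := exists_T S hv hca
      have hTq : ∀ z : E, T ⋆ (g' ⋆ (z • v)) = g' ⋆ (z • v) - (c * lf z) • v := fun z => by
        rw [hTa.perp (hP z), Bf_smul_right]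
      have hnm : ¬ Moves E (g'⁻¹ * T * g') v := fun hmv => by
        have hM' : Max (g'⁻¹ * T * g') := ⟨M.mul_mem (M.mul_mem (M.inv_mem hg'.1) hT) hg'.1, hmv, fun k hk' => by
          have h1 := mem_fixK.1 (hg'.2.2 hk')
          refine mem_fixK.2 ?_
          rw [gl_mul_mulVec, gl_mul_mulVec, h1, hTv hTa hca]
          nth_rewrite 1 [← h1]
          rw [gl_inv_mulVec]⟩
        have h1 : (g'⁻¹ * T * g') ⋆ (q • v) = (q - c * lf q) • v := by
          rw [gl_mul_mulVec, gl_mul_mulVec, hTq, mulVec_sub, gl_inv_mulVec]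
          conv_lhs => rw [← mem_fixK.1 (hg'.2.2 hk), gl_inv_mulVec]
          rw [sub_smul]
        exact hq (hL1 _ hM' q (by rw [h1]; exact Submodule.smul_mem _ _ (Submodule.mem_span_singleton_self v)))
      have h2 := Submodule.sub_mem _ (img_self g' v q') (keeps_img hnm _ (img_self g' v q'))
      rw [hTq, sub_sub_cancel] at h2
      obtain ⟨p, hp⟩ := mem_img.1 h2
      have hpK := hL1 g' hg' p (by rw [hp]; exact Submodule.smul_mem _ _ (Submodule.mem_span_singleton_self v))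
      rw [mem_fixK.1 (hg'.2.2 hpK)] at hp
      rw [← smul_left_injective E hv0 hp]
      exact hpK
    have hl00 : lf p₀ = 1 := by show Bf S _ a = 1; rw [← hd]; exact hda
    let A : Submodule F E :=
      { carrier := {e | ∀ k ∈ K, e * k ∈ K}
        zero_mem' := fun k _ => by rw [zero_mul]; exact K.zero_mem
        add_mem' := fun {x y} hx hy k hk => by rw [add_mul]; exact K.add_mem (hx k hk) (hy k hk)
        smul_mem' := fun t x hx k hk => by rw [smul_mul_assoc]; exact K.smul_mem t (hx k hk) }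
    have hA : ∀ q, lf q ∈ A := fun q k hk => by
      rcases eq_or_ne k 0 with rfl | hk0
      · rw [mul_zero]; exact K.zero_mem
      rw [mul_comm]
      exact hstab k p₀ q (by rw [hl00, mul_one]; exact hk) hp₀K hk0
    have h1A : (1 : E) ∈ A := fun k hk => by rw [one_mul]; exact hk
    have hmA : ∀ x y, x ∈ A → y ∈ A → x * y ∈ A := fun x y hx hy k hk => by
      rw [mul_assoc]; exact hx _ (hy k hk)
    haveI := Subalgebra.isSimpleOrder_of_finrank_prime F E S.prime
    rcases IsSimpleOrder.eq_bot_or_eq_top (A.toSubalgebra h1A hmA) with hA' | hA'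
    · refine fin p₀ hp₀K fun q => ?_
      have h1 : lf q ∈ A.toSubalgebra h1A hmA := hA q
      rw [hA', Algebra.mem_bot] at h1
      obtain ⟨t, ht⟩ := h1
      refine ⟨t, hl0 _ ?_⟩
      show Bf S (g' ⋆ ((q - t • p₀) • v)) a = 0
      rw [sub_smul, smul_assoc, mulVec_sub, mulVec_smul, Bf_sub_left, Bf_fsmul_left]
      show lf q - t • lf p₀ = 0
      rw [hl00, ← ht, Algebra.smul_def, mul_one, sub_self]
    · exfalso
      have h1 : p₀ ∈ A.toSubalgebra h1A hmA := hA' ▸ Algebra.mem_top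
      exact hp₀K (mul_one p₀ ▸ h1 1 h1K)
  have hgMax : Max g := ⟨hg, hgm, hK.le⟩
  by_cases hP : ∀ p : E, Bf S (g ⋆ (p • v)) v = 0
  · exact lam g hgMax hP
  push Not at hP
  obtain ⟨q₀, hq₀⟩ := hP
  -- the kernel of the pairing is the fixed part
  have hker : ∀ g', Max g' → ∀ q' : E, Bf S (g' ⋆ (q' • v)) v ≠ 0 → ∀ p : E, Bf S (g' ⋆ (p • v)) v = 0 → p ∈ K := by
    intro g' hg' q' hq' p hp
    by_contra hpK
    obtain ⟨X', hX'⟩ : ∃ X', X' = img E g' v ⊓ (LinearMap.ker (Bl S v)).restrictScalars F := ⟨_, rfl⟩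
    have hlt : finrank F X' < finrank F E := lt_of_lt_of_le (Submodule.finrank_lt_finrank_of_lt
      (lt_of_le_of_ne (hX' ▸ inf_le_left) fun h => hq' (show g' ⋆ (q' • v) ∈ LinearMap.ker (Bl S v) from
        (hX' ▸ h ▸ img_self g' v q' : g' ⋆ (q' • v) ∈
          img E g' v ⊓ (LinearMap.ker (Bl S v)).restrictScalars F).2))) (finrank_img_le g' v)
    have h1 := absorb S (u := v) (y := g' ⋆ (q' • v)) hq'
      (W := LinearMap.ker (Bl S v) ⊓ LinearMap.ker (Bl S (g' ⋆ (p • v)))) (X := X') fun a ha => by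
        have hav : Bf S a v = 0 := ha.1
        have hax : Bf S (g' ⋆ (p • v)) a = 0 := by rw [Bf_comm S]; exact ha.2
        have hna : Bf S (-a) v = 0 := by rw [Bf_neg_left, hav, neg_zero]
        obtain ⟨T, hTM, hTa⟩ := exists_T S hv hav
        obtain ⟨T', hTM', hTa'⟩ := exists_T S hv hna
        rw [hX']
        refine ⟨?_, ?_⟩
        · rw [hTa.double (y := g' ⋆ (q' • v)) hTa' rfl]
          exact half_mem S (Submodule.sub_mem _
            (Submodule.sub_mem _ (hkeep g' hg' hTM hTa hav p hpK (hTa.fix hp hax) _ (img_self g' v q'))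
              (img_self g' v q'))
            (Submodule.sub_mem _ (hkeep g' hg' hTM' hTa' hna p hpK
              (hTa'.fix hp (by rw [Bf_neg_right, hax, neg_zero])) _ (img_self g' v q')) (img_self g' v q')))
        · show Bf S (_ • a - _ • v) v = 0
          rw [Bf_sub_left, Bf_smul_left, Bf_smul_left, hav, hv, mul_zero, mul_zero, sub_zero]
    have h2 := finrank_ker_Bl S v
    have h3 := finrank_inf_ker S (LinearMap.ker (Bl S v)) (g' ⋆ (p • v))
    have h4 := hl
    have h5 : finrank F E * 2 ≤ finrank F E *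
        finrank E ↥(LinearMap.ker (Bl S v) ⊓ LinearMap.ker (Bl S (g' ⋆ (p • v)))) :=
      Nat.mul_le_mul_left _ (by omega)
    omega
  -- an Eichler transformation killing the pairing at one more point
  obtain ⟨p₀, hp₀⟩ := hgm
  have hp₀K : p₀ ∉ K := fun h => hp₀ (by
    rw [mem_fixK.1 (hK ▸ h)]; exact Submodule.smul_mem _ _ (Submodule.mem_span_singleton_self v))
  obtain ⟨f, -, hf, hvf⟩ := exists_partner S (nd_top S) Submodule.mem_top hv0 hv
  obtain ⟨C, hC⟩ := Submodule.exists_isCompl K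
  obtain ⟨bC, -⟩ : ∃ b : Basis (Fin (finrank F C)) F C, b = Module.finBasis F C := ⟨_, rfl⟩
  obtain ⟨bU, -⟩ : ∃ b : Basis (Fin (finrank F (pperp S v f))) F (pperp S v f), b = Module.finBasis F _ := ⟨_, rfl⟩
  obtain ⟨x₀, hx₀⟩ : ∃ x₀, x₀ = g ⋆ (p₀ • v) := ⟨_, rfl⟩
  let y : Fin (finrank F C) → (ι → F) := fun j => g ⋆ ((bC j : E) • v)
  let c1 : Fin (finrank F C) → Fin (finrank F (pperp S v f)) → F := fun j i =>
    pol Q (Bf S x₀ v • (bU i : ι → F) - Bf S x₀ (bU i : ι → F) • v) (y j)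
  let c2 : Fin (finrank F C) → Fin (finrank F (pperp S v f)) → Fin (finrank F (pperp S v f)) → F := fun j i k =>
    -pol Q ((Bf S (bU i : ι → F) (bU k : ι → F) / 2 * Bf S x₀ v) • v) (y j)
  let P : Fin (finrank F C) → MvPolynomial (Fin (finrank F (pperp S v f))) F := fun j =>
    (∑ i, MvPolynomial.C (c1 j i) * MvPolynomial.X i) +
      ∑ i, ∑ k, MvPolynomial.C (c2 j i k) * MvPolynomial.X i * MvPolynomial.X k
  have hdeg : ∀ j, (P j).totalDegree ≤ 2 := fun j => by
    refine (MvPolynomial.totalDegree_add _ _).trans (max_le ?_ ?_)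
    · refine MvPolynomial.totalDegree_finsetSum_le fun i _ => (MvPolynomial.totalDegree_mul _ _).trans ?_
      rw [MvPolynomial.totalDegree_C, MvPolynomial.totalDegree_X]
      omega
    · refine MvPolynomial.totalDegree_finsetSum_le fun i _ => ?_
      refine MvPolynomial.totalDegree_finsetSum_le fun k _ => (MvPolynomial.totalDegree_mul _ _).trans ?_
      refine le_trans (Nat.add_le_add_right (MvPolynomial.totalDegree_mul _ _) _) ?_
      rw [MvPolynomial.totalDegree_C, MvPolynomial.totalDegree_X, MvPolynomial.totalDegree_X]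
  have hsum : (∑ j, (P j).totalDegree) < Fintype.card (Fin (finrank F (pperp S v f))) := by
    refine lt_of_le_of_lt (Finset.sum_le_sum fun j _ => hdeg j) ?_
    rw [Finset.sum_const, Finset.card_univ, Fintype.card_fin, Fintype.card_fin, smul_eq_mul,
      ← finrank_mul_finrank F E (pperp S v f)]
    have h1 := Submodule.finrank_add_eq_of_isCompl hC
    have h2 : 1 ≤ finrank F K := Submodule.one_le_finrank_iff.2 fun h => one_ne_zero
      (α := E) ((Submodule.mem_bot F).1 (h ▸ h1K))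
    have h3 := finrank_pperp S v f
    have h4 := hl
    have h5 : finrank F E * 2 ≤ finrank F E * finrank E (pperp S v f) := Nat.mul_le_mul_left _ (by omega)
    omega
  obtain ⟨p, hp⟩ := CharP.exists F
  haveI : Fact p.Prime := ⟨CharP.char_is_prime F p⟩
  have hdvd := char_dvd_card_solutions_of_fintype_sum_lt p hsum
  have hzero : ∀ j, MvPolynomial.eval (0 : Fin (finrank F (pperp S v f)) → F) (P j) = 0 := fun j => by simp [P]
  rw [@Fintype.card_eq_nat_card _ (_)] at hdvd
  haveI : Nonempty {x // ∀ j, MvPolynomial.eval x (P j) = 0} := ⟨⟨0, hzero⟩⟩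
  haveI : Nontrivial {x // ∀ j, MvPolynomial.eval x (P j) = 0} := Finite.one_lt_card_iff_nontrivial.1
    (lt_of_lt_of_le (Fact.out : p.Prime).one_lt (Nat.le_of_dvd Nat.card_pos hdvd))
  obtain ⟨⟨t, ht⟩, htne⟩ := exists_ne (⟨0, hzero⟩ : {x // ∀ j, MvPolynomial.eval x (P j) = 0})
  obtain ⟨a, ha⟩ : ∃ a, a = ∑ i, t i • (bU i : ι → F) := ⟨_, rfl⟩
  have haU : a ∈ pperp S v f := ha ▸ Submodule.sum_mem _ fun i _ => (pperp S v f).smul_of_tower_mem _ (bU i).2
  obtain ⟨hav, haf⟩ := (mem_pperp S).1 haU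
  have ha0 : a ≠ 0 := fun h0 => htne (Subtype.ext (funext fun i =>
    Fintype.linearIndependent_iff.1 bU.linearIndependent t (Subtype.ext (by
      rw [ha] at h0
      simpa using h0)) i))
  obtain ⟨T, hT, hTa⟩ := exists_T S hv hav
  have heval : ∀ j, pol Q (T ⋆ x₀) (y j) = MvPolynomial.eval t (P j) := fun j => by
    have hBa : ∀ z, Bf S z a = ∑ i, t i • Bf S z (bU i : ι → F) := fun z => by
      rw [ha, Bf_comm S, ← Bl_apply S, map_sum]
      refine Finset.sum_congr rfl fun i _ => ?_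
      rw [← algebraMap_smul E (t i), map_smul, Bl_apply, smul_eq_mul, Algebra.smul_def, Bf_comm S]
    have e1 : T ⋆ x₀ = x₀ + ∑ i, t i • (Bf S x₀ v • (bU i : ι → F) - Bf S x₀ (bU i : ι → F) • v)
        - ∑ i, ∑ k, (t i * t k) • ((Bf S (bU i : ι → F) (bU k : ι → F) / 2 * Bf S x₀ v) • v) := by
      have e2 : Bf S a a / 2 * Bf S x₀ v = ∑ i, ∑ k, (t i * t k) •
          (Bf S (bU i : ι → F) (bU k : ι → F) / 2 * Bf S x₀ v) := by
        rw [hBa a, Finset.sum_div, Finset.sum_mul]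
        refine Finset.sum_congr rfl fun i _ => ?_
        rw [Bf_comm S a, hBa, Finset.smul_sum, Finset.sum_div, Finset.sum_mul]
        refine Finset.sum_congr rfl fun k _ => ?_
        rw [mul_smul, Algebra.smul_def (t i), Algebra.smul_def (t k), Algebra.smul_def (t i),
          Algebra.smul_def (t k)]
        ring
      rw [hTa, add_smul, e2, Finset.sum_smul, hBa, Finset.sum_smul]
      simp only [Finset.sum_smul, smul_assoc, smul_sub, Finset.sum_sub_distrib]
      have e3 : Bf S x₀ v • a = ∑ i, t i • Bf S x₀ v • (bU i : ι → F) := by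
        rw [ha, Finset.smul_sum]
        exact Finset.sum_congr rfl fun i _ => smul_comm _ _ _
      rw [e3]
      abel
    have e0 : pol Q x₀ (y j) = 0 := by
      rw [hx₀, iso_pol (le_iso S hg), pol_line S hv]
    have hlin : ∀ (s : Finset (Fin (finrank F (pperp S v f)))) (w : Fin (finrank F (pperp S v f)) → (ι → F)),
        pol Q (∑ i ∈ s, w i) (y j) = ∑ i ∈ s, pol Q (w i) (y j) := fun s w => map_sum (pfl S.form (y j)) w s
    rw [e1, psub_left S.form, padd_left S.form, e0, zero_add, hlin, hlin]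
    simp only [hlin, psmul_left S.form, P, map_add, map_sum, map_mul, MvPolynomial.eval_C, MvPolynomial.eval_X,
      c1, c2, sub_eq_add_neg, ← Finset.sum_neg_distrib]
    congr 1
    · exact Finset.sum_congr rfl fun i _ => by ring
    · exact Finset.sum_congr rfl fun i _ => Finset.sum_congr rfl fun k _ => by ring
  have hpk : ∀ z : E, pol Q (T ⋆ x₀) (g ⋆ (z • v)) = 0 := by
    intro z
    obtain ⟨k, hk, cc, hcc, rfl⟩ := Submodule.mem_sup.1 (hC.sup_eq_top ▸ Submodule.mem_top : z ∈ K ⊔ C)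
    rw [add_smul, mulVec_add, padd_right S.form]
    have h1 : pol Q (T ⋆ x₀) (g ⋆ (k • v)) = 0 := by
      have h2 := mem_fixK.1 (hK ▸ hk : k ∈ fixK E g v)
      rw [h2, ← hTv hTa hav k, iso_pol (le_iso S hT), hx₀, ← h2, iso_pol (le_iso S hg), pol_line S hv]
    have h2 : pol Q (T ⋆ x₀) (g ⋆ (cc • v)) = 0 := by
      have h3 : (cc : E) = ∑ j, bC.repr ⟨cc, hcc⟩ j • (bC j : E) := by
        have h4 := congrArg Subtype.val (bC.sum_repr ⟨cc, hcc⟩)
        rw [Submodule.coe_sum] at h4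
        exact h4.symm
      rw [h3, Finset.sum_smul, mulVec_sum, pcomm,
        show pol Q (∑ j, g ⋆ ((bC.repr ⟨cc, hcc⟩ j • (bC j : E)) • v)) (T ⋆ x₀) =
          ∑ j, pol Q (g ⋆ ((bC.repr ⟨cc, hcc⟩ j • (bC j : E)) • v)) (T ⋆ x₀) from map_sum (pfl S.form _) _ _]
      refine Finset.sum_eq_zero fun j _ => ?_
      rw [smul_assoc, mulVec_smul, psmul_left S.form, pcomm, show g ⋆ ((bC j : E) • v) = y j from rfl, heval, ht,
        mul_zero]
    rw [h1, h2, add_zero]
  -- conclusion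
  by_cases hmv : Moves E (g⁻¹ * T * g) v
  · have hM' : Max (g⁻¹ * T * g) := ⟨M.mul_mem (M.mul_mem (M.inv_mem hg) hT) hg, hmv, fun k hk => by
      have h1 := mem_fixK.1 (hK ▸ hk : k ∈ fixK E g v)
      refine mem_fixK.2 ?_
      rw [gl_mul_mulVec, gl_mul_mulVec, h1, hTv hTa hav]
      nth_rewrite 1 [← h1]
      rw [gl_inv_mulVec]⟩
    refine lam _ hM' fun q => by_contra fun hq => hp₀K (hker _ hM' q hq p₀ ?_)
    refine tr_ext (F := F) fun z => ?_
    rw [mul_zero, map_zero, ← pol_smul_right S, gl_mul_mulVec, gl_mul_mulVec, ← hx₀]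
    conv_lhs => rw [← gl_inv_mulVec g (z • v)]
    rw [iso_pol (Subgroup.inv_mem _ (le_iso S hg))]
    exact hpk z
  · exfalso
    have h1 := Submodule.sub_mem _ (keeps_img hmv _ (img_self g v q₀)) (img_self g v q₀)
    obtain ⟨p', hp'⟩ := mem_img.1 h1
    have hw : T ⋆ (g ⋆ (q₀ • v)) - g ⋆ (q₀ • v) = Bf S (g ⋆ (q₀ • v)) v • a -
        (Bf S (g ⋆ (q₀ • v)) a + Bf S a a / 2 * Bf S (g ⋆ (q₀ • v)) v) • v := by rw [hTa]; abel
    have hp'K : p' ∈ K := hker g hgMax q₀ hq₀ p' (by
      rw [hp', hw, Bf_sub_left, Bf_smul_left, Bf_smul_left, hav, hv]; ring)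
    rw [mem_fixK.1 (hK ▸ hp'K : p' ∈ fixK E g v), hw] at hp'
    have h2 := congrArg (fun z => Bf S z f) hp'
    simp only [Bf_sub_left, Bf_smul_left, haf, hvf, mul_one, mul_zero, zero_sub] at h2
    have h3 : Bf S (g ⋆ (q₀ • v)) v • a = (0 : E) • v := by
      rw [sub_eq_iff_eq_add.1 hp'.symm, ← add_smul]
      congr 1
      rw [h2]
      ring
    rw [zero_smul, smul_eq_zero] at h3
    exact h3.elim hq₀ ha0

end CfsgLib.Perm.Trans.OrthExt
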