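import Cfsg.Agent.Lib.Perm.Trans.OrthExt.Descent

/-!
# Overgroups over an extension field: long root elements inside a singular line

An element fixing a hyperplane of a singular line and moving the line gives elements of the overgroup acting on the
quotient of the orthogonal of the hyperplane by the hyperplane as Eichler transformations of two vectors which are
independent over `E`.  Their commutators with the Eichler transformations over `E` leave Eichler transformations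
of two vectors of the line.
-/

set_option autoImplicit false
set_option linter.all false

namespace CfsgLib.Perm.Trans.OrthExt

open scoped Matrix
open Matrix Module Cfsg.Geo CfsgLib.Perm.Asch CfsgLib.Perm.Trans CfsgLib.Perm.Trans.Quad
open CfsgLib.Perm.Trans.Symp.Ext (tr trDual trDual_apply tr_ext tr_smul_one exists_tr_separate)

variable {ι : Type} [Fintype ι] [DecidableEq ι] {F : Type*} [Field F] [Fintype F]
variable {E : Type*} [Field E] [Algebra F E] [FiniteDimensional F E]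
variable [Module E (ι → F)] [IsScalarTower F E (ι → F)]
variable {Q : (ι → F) → F}

local notation "pol" => QuadraticMap.polar
local notation:75 g " ⋆ " x:75 => (Units.val g : Matrix ι ι F) *ᵥ x

/-- the hyperplane of the line of `v` given by `ρ` -/
noncomputable def kv (v : ι → F) (ρ : E) : Submodule F (ι → F) :=
  (LinearMap.ker ((tr F E).comp (LinearMap.mulRight F ρ))).map (lineMap v)

theorem mem_kv {v : ι → F} {ρ : E} {x : ι → F} : x ∈ kv v ρ ↔ ∃ p : E, tr F E (p * ρ) = 0 ∧ p • v = x := by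
  simp only [kv, Submodule.mem_map, LinearMap.mem_ker, LinearMap.comp_apply, LinearMap.mulRight_apply, lineMap_apply]

/-- `g` fixes the hyperplane given by `ρ` -/
def FixK (v : ι → F) (ρ : E) (g : GL ι F) : Prop := ∀ p : E, tr F E (p * ρ) = 0 → g ⋆ (p • v) = p • v

theorem FixK.one (v : ι → F) (ρ : E) : FixK v ρ (1 : GL ι F) := fun p _ => by rw [Units.val_one, one_mulVec]

theorem FixK.mul {v : ι → F} {ρ : E} {g h : GL ι F} (hg : FixK v ρ g) (hh : FixK v ρ h) : FixK v ρ (g * h) :=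
  fun p hp => by rw [gl_mul_mulVec, hh p hp, hg p hp]

theorem FixK.mem {v : ι → F} {ρ : E} {g : GL ι F} (hg : FixK v ρ g) {x : ι → F} (hx : x ∈ kv v ρ) : g ⋆ x = x := by
  obtain ⟨p, hp, rfl⟩ := mem_kv.1 hx
  exact hg p hp

theorem FixK.trans {v : ι → F} {ρ : E} {m m' : GL ι F} (hm' : FixK v ρ m') {x f f' : ι → F}
    (h : m ⋆ x - f ∈ kv v ρ) (h' : m' ⋆ f - f' ∈ kv v ρ) : (m' * m) ⋆ x - f' ∈ kv v ρ := by
  have h1 := hm'.mem h
  rw [mulVec_sub] at h1
  rw [gl_mul_mulVec, show m' ⋆ (m ⋆ x) - f' = (m' ⋆ (m ⋆ x) - m' ⋆ f) + (m' ⋆ f - f') by abel, h1]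
  exact Submodule.add_mem _ h h'

/-- `x` is orthogonal to the hyperplane given by `ρ` -/
def Per (Q : (ι → F) → F) (v : ι → F) (ρ : E) (x : ι → F) : Prop :=
  ∀ p : E, tr F E (p * ρ) = 0 → pol Q x (p • v) = 0

variable {M : Subgroup (GL ι F)} (S : OData E Q M)
include S

omit S in
theorem tr_split {ρ : E} (hρ : ρ ≠ 0) (p : E) :
    tr F E ((p - tr F E (p * ρ) • ρ⁻¹) * ρ) = 0 := by
  rw [sub_mul, map_sub, smul_mul_assoc, inv_mul_cancel₀ hρ, tr_smul_one, sub_self]

omit S in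
theorem line_mod {ρ : E} (hρ : ρ ≠ 0) (v : ι → F) (p : E) :
    p • v - tr F E (p * ρ) • ρ⁻¹ • v ∈ kv v ρ :=
  mem_kv.2 ⟨_, tr_split hρ p, by rw [sub_smul, smul_assoc]⟩

theorem per_Bf {v x : ι → F} {ρ : E} (hρ : ρ ≠ 0) (hx : Per Q v ρ x) :
    Bf S x v = pol Q x (ρ⁻¹ • v) • ρ := tr_ext (F := F) fun q => by
  rw [← pol_smul_right S]
  conv_lhs => rw [show q • v = (q - tr F E (q * ρ) • ρ⁻¹) • v + tr F E (q * ρ) • ρ⁻¹ • v by
    rw [sub_smul, smul_assoc, sub_add_cancel]]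
  rw [padd_right S.form, psmul_right S.form, hx _ (tr_split hρ q), zero_add, mul_smul_comm, map_smul, smul_eq_mul,
    mul_comm]

theorem perp_of_pol {v x : ι → F} (h : ∀ p : E, pol Q x (p • v) = 0) : Bf S x v = 0 := tr_ext (F := F) fun q => by
  rw [mul_zero, map_zero, ← pol_smul_right S, h]

theorem pol_of_perp {v x : ι → F} (h : Bf S x v = 0) (p : E) : pol Q x (p • v) = 0 := by
  rw [pol_smul_right S, h, mul_zero, map_zero]

theorem per_kv {v x : ι → F} {ρ : E} (hv : Bf S v v = 0) (hx : x ∈ kv v ρ) (p : E) : pol Q x (p • v) = 0 := by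
  obtain ⟨q, -, rfl⟩ := mem_kv.1 hx
  exact pol_line S hv q p

/-- the action of the conjugates of the Eichler transformations on the quotient -/
theorem exists_S {g : GL ι F} {v : ι → F} {ρ : E} (hg : g ∈ M) (hv : Bf S v v = 0) (hρ : ρ ≠ 0)
    (hfix : FixK v ρ g) {b : ι → F} (hb : ∀ p : E, pol Q b (g ⋆ (p • v)) = 0) :
    ∃ m ∈ M, FixK v ρ m ∧ ∀ x, Per Q v ρ x → m ⋆ x - (x + pol Q x (g ⋆ (ρ⁻¹ • v)) • b -
      (pol Q x b + Q b * pol Q x (g ⋆ (ρ⁻¹ • v))) • (g ⋆ (ρ⁻¹ • v))) ∈ kv v ρ := by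
  obtain ⟨b', hb'⟩ : ∃ b', b' = g⁻¹ ⋆ b := ⟨_, rfl⟩
  have hgb : g ⋆ b' = b := by rw [hb', gl_mulVec_inv]
  have hb'v : Bf S b' v = 0 := perp_of_pol S fun p => by rw [← iso_pol (le_iso S hg), hgb, hb]
  obtain ⟨b₀, hb₀⟩ : ∃ b₀, b₀ = ρ⁻¹ • b' := ⟨_, rfl⟩
  have hb₀v : Bf S b₀ v = 0 := by rw [hb₀, Bf_smul_left, hb'v, mul_zero]
  obtain ⟨T, hT, hTb⟩ := exists_T S hv hb₀v
  refine ⟨g * T * g⁻¹, M.mul_mem (M.mul_mem hg hT) (M.inv_mem hg), fun p hp => ?_, fun x hx => ?_⟩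
  · rw [gl_mul_mulVec, gl_mul_mulVec]
    nth_rewrite 1 [← hfix p hp]
    rw [gl_inv_mulVec, hTb.fix_line hv hb₀v, hfix p hp]
  obtain ⟨w, hw⟩ : ∃ w, w = g⁻¹ ⋆ x := ⟨_, rfl⟩
  have hgw : g ⋆ w = x := by rw [hw, gl_mulVec_inv]
  have hwP : Per Q v ρ w := fun p hp => by rw [← iso_pol (le_iso S hg), hgw, hfix p hp, hx p hp]
  obtain ⟨t, ht⟩ : ∃ t, t = pol Q x (g ⋆ (ρ⁻¹ • v)) := ⟨_, rfl⟩
  have hBw : Bf S w v = t • ρ := by
    rw [per_Bf S hρ hwP, ← iso_pol (le_iso S hg), hgw, ← ht]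
  obtain ⟨η, hη⟩ : ∃ η, η = Bf S w b₀ + Bf S b₀ b₀ / 2 * Bf S w v := ⟨_, rfl⟩
  have htr : tr F E (η * ρ) = pol Q x b + Q b * t := by
    have h2 := two_E S
    have e1 : η * ρ = Bf S w b' + t • ((2 : E)⁻¹ * Bf S b' b') := by
      rw [hη, hBw, hb₀, Bf_smul_right, Bf_smul_left, Bf_smul_right, Algebra.smul_def, Algebra.smul_def]
      field_simp
    have e2 : tr F E ((2 : E)⁻¹ * Bf S b' b') = Q b := by
      have h3 := Q_eq S b'
      rw [show (2 : E)⁻¹ * Bf S b' b' = (2 : F)⁻¹ • Bf S b' b' by rw [Algebra.smul_def, map_inv₀, map_ofNat],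
        map_smul, ← h3, smul_eq_mul, inv_mul_cancel_left₀ S.two, ← hgb, mem_iso.1 (le_iso S hg)]
    rw [e1, map_add, map_smul, e2, ← pol_eq S, ← iso_pol (le_iso S hg), hgw, hgb, smul_eq_mul, mul_comm]
  have hTw : T ⋆ w = w + t • b' - η • v := by
    rw [hTb, ← hη, hBw, hb₀, smul_assoc, smul_smul, mul_inv_cancel₀ hρ, one_smul]
  rw [gl_mul_mulVec, gl_mul_mulVec, ← hw, hTw, mulVec_sub, mulVec_add, mulVec_smul, hgw, hgb, ← ht, ← htr]
  have h1 := line_mod hρ v η
  have h2 : g ⋆ (η • v) - tr F E (η * ρ) • (g ⋆ (ρ⁻¹ • v)) ∈ kv v ρ := by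
    rw [← mulVec_smul, ← mulVec_sub, hfix.mem h1]
    exact h1
  rw [show x + t • b - g ⋆ (η • v) - (x + t • b - tr F E (η * ρ) • (g ⋆ (ρ⁻¹ • v))) =
    -(g ⋆ (η • v) - tr F E (η * ρ) • (g ⋆ (ρ⁻¹ • v))) by abel]
  exact Submodule.neg_mem _ h2

/-- the element leaving a long root element of the line -/
theorem exists_root {v : ι → F} {ρ : E} (hv : Bf S v v = 0) (hv0 : v ≠ 0) (hρ : ρ ≠ 0) (htρ : tr F E ρ = 0)
    {C : GL ι F} (hC : C ∈ M) (hCK : FixK v ρ C) {a b : ι → F} (hav : Bf S a v = 0) (hbv : Bf S b v = 0)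
    (ha : a ∉ Submodule.span E ({v} : Set (ι → F))) (hb : b ∉ Submodule.span E ({v, a} : Set (ι → F)))
    (hCx : ∀ x, Per Q v ρ x → C ⋆ x - (x - pol Q x b • a + pol Q x a • b) ∈ kv v ρ) :
    ∃ κ : E, κ ≠ 0 ∧ tr F E (κ * ρ) = 0 ∧ ∀ η : E, EIn Q M (κ • v) (η • v) := by
  have h2 := two_E S
  -- the action on the line
  have hline : ∀ p : E, C ⋆ (p • v) - p • v ∈ kv v ρ := fun p => by
    have h := hCx (p • v) fun q _ => pol_line S hv p q
    rwa [pcomm _ b, pcomm _ a, pol_of_perp S hbv, pol_of_perp S hav, zero_smul, zero_smul, sub_zero, add_zero] at h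
  obtain ⟨k, hk, hkv⟩ := mem_kv.1 (hline ρ⁻¹)
  have hφ : ∀ p : E, C ⋆ (p • v) = (p + tr F E (p * ρ) • k) • v := fun p => by
    have h1 := hCK.mem (line_mod hρ v p)
    rw [mulVec_sub, mulVec_smul, sub_eq_iff_eq_add, ← sub_add_cancel (C ⋆ (ρ⁻¹ • v)) (ρ⁻¹ • v), ← hkv] at h1
    rw [h1, add_smul, smul_assoc, smul_add]
    abel
  have hCperp : ∀ x, Bf S x v = 0 → Bf S (C⁻¹ ⋆ x) v = 0 ∧ Bf S (C ⋆ x) v = 0 := by
    intro x hx
    refine ⟨perp_of_pol S fun p => ?_, perp_of_pol S fun p => ?_⟩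
    · rw [← iso_pol (le_iso S hC), gl_mulVec_inv, hφ]
      exact pol_of_perp S hx _
    · have h1 : C ⋆ ((p - tr F E (p * ρ) • k) • v) = p • v := by
        rw [hφ]
        congr 1
        rw [sub_mul, map_sub, smul_mul_assoc, map_smul, hk, smul_zero, sub_zero, sub_add_cancel]
      rw [← h1, iso_pol (le_iso S hC)]
      exact pol_of_perp S hx _
  -- the elements trivial on the quotient
  have key : ∀ c, Bf S c v = 0 → pol Q c a = 0 → pol Q c b = 0 → ∃ D ∈ M, ∀ x, Bf S x v = 0 →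
      D ⋆ (C ⋆ x) = C ⋆ x + (-(pol Q x b • (ρ⁻¹ * Bf S a c)) + pol Q x a • (ρ⁻¹ * Bf S b c) - pol Q x c • k) • v := by
    intro c hc hca hcb
    have hcv : Bf S (ρ⁻¹ • c) v = 0 := by rw [Bf_smul_left, hc, mul_zero]
    have hcv' : Bf S (-(ρ⁻¹ • c)) v = 0 := by rw [Bf_neg_left, hcv, neg_zero]
    obtain ⟨T, hT, hTc⟩ := exists_T S hv hcv
    obtain ⟨T', hT', hTc'⟩ := exists_T S hv hcv'
    refine ⟨T' * (C * T * C⁻¹), M.mul_mem hT' (M.mul_mem (M.mul_mem hC hT) (M.inv_mem hC)), fun x hx => ?_⟩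
    obtain ⟨κ, -, hκ⟩ := mem_kv.1 (hCx x fun p _ => pol_of_perp S hx p)
    have hBC : Bf S (C ⋆ x) c = Bf S x c - pol Q x b • Bf S a c + pol Q x a • Bf S b c := by
      rw [show C ⋆ x = (x - pol Q x b • a + pol Q x a • b) + κ • v by rw [hκ, add_sub_cancel], Bf_add_left,
        Bf_add_left, Bf_sub_left, Bf_fsmul_left, Bf_fsmul_left, Bf_smul_left, Bf_comm S v, hc, mul_zero, add_zero]
    have htr : tr F E (ρ⁻¹ * Bf S x c * ρ) = pol Q x c := by
      rw [pol_eq S, mul_comm, mul_inv_cancel_left₀ hρ]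
    rw [gl_mul_mulVec, gl_mul_mulVec, gl_mul_mulVec, gl_inv_mulVec, hTc.perp hx, mulVec_sub, Bf_smul_right, hφ,
      htr, hTc'.perp (by rw [Bf_sub_left, (hCperp x hx).2, Bf_smul_left, hv, mul_zero, sub_zero]), Bf_sub_left,
      Bf_smul_left, Bf_neg_right, Bf_neg_right, Bf_smul_right, Bf_smul_right, Bf_comm S v c, hc, hBC]
    simp only [Algebra.smul_def]
    match_scalars <;> ring
  obtain ⟨u, κ, D, hD, hκ0, hκ, huv, hu, hDx⟩ : ∃ (u : ι → F) (κ : E), ∃ D ∈ M, κ ≠ 0 ∧ tr F E (κ * ρ) = 0 ∧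
      Bf S u v = 0 ∧ u ∉ Submodule.span E ({v} : Set (ι → F)) ∧
      ∀ x, Bf S x v = 0 → D ⋆ (C ⋆ x) = C ⋆ x + pol Q x u • κ • v := by
    by_cases hk0 : k = 0
    · obtain ⟨c, hc, hac, hbc⟩ := exists_sep_two S ha hb 0 ρ
      obtain ⟨D, hD, hDx⟩ := key c hc (by rw [pcomm, pol_eq S, hac, map_zero]) (by rw [pcomm, pol_eq S, hbc, htρ])
      refine ⟨a, 1, D, hD, one_ne_zero, by rw [one_mul]; exact htρ, hav, ha, fun x hx => ?_⟩
      rw [hDx x hx, hac, hbc, hk0, mul_zero, smul_zero, neg_zero, zero_add, smul_zero, sub_zero,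
        inv_mul_cancel₀ hρ, smul_assoc]
    obtain ⟨c, hc, hac, hbc⟩ := exists_sep_two S ha hb 0 (k * ρ)
    obtain ⟨c', hc', hac', hbc'⟩ := exists_sep_two S ha hb (k * ρ) 0
    by_cases hu : a - c ∈ Submodule.span E ({v} : Set (ι → F))
    swap
    · obtain ⟨D, hD, hDx⟩ := key c hc (by rw [pcomm, pol_eq S, hac, map_zero]) (by rw [pcomm, pol_eq S, hbc, hk])
      refine ⟨a - c, k, D, hD, hk0, hk, by rw [Bf_sub_left, hav, hc, sub_zero], hu, fun x hx => ?_⟩
      rw [hDx x hx, hac, hbc, mul_zero, smul_zero, neg_zero, zero_add, psub_right S.form, sub_smul, sub_smul,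
        show ρ⁻¹ * (k * ρ) = k by field_simp, smul_assoc, smul_assoc]
    obtain ⟨D, hD, hDx⟩ := key c' hc' (by rw [pcomm, pol_eq S, hac', hk]) (by rw [pcomm, pol_eq S, hbc', map_zero])
    refine ⟨-(b + c'), k, D, hD, hk0, hk, by rw [Bf_neg_left, Bf_add_left, hbv, hc', add_zero, neg_zero],
      fun hu' => ?_, fun x hx => ?_⟩
    · obtain ⟨t, ht⟩ := Submodule.mem_span_singleton.1 hu
      obtain ⟨t', ht'⟩ := Submodule.mem_span_singleton.1 hu'
      have e1 : Bf S a b = k * ρ := by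
        rw [show a = c + t • v by rw [ht]; abel, Bf_add_left, Bf_smul_left, Bf_comm S c, hbc, Bf_comm S v, hbv,
          mul_zero, add_zero]
      have e2 : Bf S a b = -(k * ρ) := by
        rw [show b = -c' - t' • v by rw [ht']; abel, Bf_sub_right, Bf_neg_right, hac', Bf_smul_right, hav, mul_zero,
          sub_zero]
      exact mul_ne_zero hk0 hρ ((mul_eq_zero.1 (show (2 : E) * (k * ρ) = 0 by
        linear_combination e2 - e1)).resolve_left h2)
    · rw [hDx x hx, hac', hbc', mul_zero, smul_zero, add_zero, pneg_right S.form, padd_right S.form,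
        show ρ⁻¹ * (k * ρ) = k by field_simp, sub_smul, neg_smul, smul_assoc, smul_assoc]
      module
  -- the commutator
  obtain ⟨u', hu'⟩ : ∃ u', u' = C ⋆ u := ⟨_, rfl⟩
  have hu'v : Bf S u' v = 0 := hu' ▸ (hCperp u huv).2
  have hu'n : u' ∉ Submodule.span E ({v} : Set (ι → F)) := fun h => by
    obtain ⟨q, hq⟩ := Submodule.mem_span_singleton.1 h
    refine hu (Submodule.mem_span_singleton.2 ⟨q - tr F E (q * ρ) • k, ?_⟩)
    apply Matrix.mulVec_injective_of_isUnit (Units.isUnit C)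
    show C ⋆ ((q - tr F E (q * ρ) • k) • v) = C ⋆ u
    rw [hφ, ← hu', ← hq]
    congr 1
    rw [sub_mul, map_sub, smul_mul_assoc, map_smul, hk, smul_zero, sub_zero, sub_add_cancel]
  refine ⟨κ, hκ0, hκ, fun η => ?_⟩
  have hQκ : Q (κ • v) = 0 := Q_sing S hv κ
  have hκu : pol Q (κ • v) (-u') = 0 := by rw [pneg_right S.form, pcomm, pol_of_perp S hu'v, neg_zero]
  obtain ⟨E₀, hE₀, hE₀x⟩ := exists_E S.form hQκ hκu
  obtain ⟨N, hN⟩ : ∃ N, N = E₀⁻¹ * D := ⟨_, rfl⟩
  have hNi : N ∈ Cfsg.isometryGroup F Q := hN ▸ mul_mem (inv_mem hE₀) (le_iso S hD)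
  have hNfix : ∀ z, Bf S z v = 0 → N ⋆ z = z := fun z hz => by
    have h1 : D ⋆ z = z + pol Q z u' • κ • v := by
      have h := hDx _ (hCperp z hz).1
      rw [gl_mulVec_inv] at h
      rw [h, hu', ← iso_pol (le_iso S hC) (C⁻¹ ⋆ z) u, gl_mulVec_inv]
    have h2 : E₀ ⋆ z = D ⋆ z := by
      rw [hE₀x, pol_of_perp S hz, pneg_right S.form, h1]
      simp
    rw [hN, gl_mul_mulVec, ← h2, gl_inv_mulVec]
  have hNline : ∀ z, N ⋆ z - z ∈ Submodule.span E ({v} : Set (ι → F)) := fun z =>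
    mem_line_of_perp S fun w hw => by
      conv_lhs => rw [psub_left S.form, ← hNfix w hw, iso_pol hNi, hNfix w hw]
      rw [sub_self]
  obtain ⟨a₁, ha₁, hua₁⟩ := exists_sep_line S hu'n
  have hcv : Bf S (η • a₁) v = 0 := by rw [Bf_smul_left, ha₁, mul_zero]
  obtain ⟨T, hT, hTc⟩ := exists_T S hv hcv
  have hNT : N * T = T * N := gl_ext_vec fun z => by
    obtain ⟨s, hs⟩ := Submodule.mem_span_singleton.1 (hNline z)
    have h1 : Bf S (T ⋆ z - z) v = 0 := by
      simp only [hTc z, Bf_sub_left, Bf_add_left, Bf_smul_left, hcv, ha₁, hv]; ring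
    rw [gl_mul_mulVec, gl_mul_mulVec]
    calc N ⋆ (T ⋆ z) = N ⋆ z + (T ⋆ z - z) := by
          rw [← hNfix _ h1, ← mulVec_add, add_sub_cancel]
      _ = T ⋆ z + s • v := by rw [hs]; abel
      _ = T ⋆ (N ⋆ z) := by
          rw [show N ⋆ z = z + s • v by rw [hs, add_sub_cancel], mulVec_add, hTc.fix_line hv hcv]
  have hTE : IsE Q (κ • v) (-u' + η • v) (T * E₀ * T⁻¹) := by
    have h := hE₀x.conj (le_iso S hT)
    rwa [hTc.fix_line hv hcv, mulVec_neg, hTc.perp hu'v, Bf_smul_right, hua₁, mul_one,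
      show -(u' - η • v) = -u' + η • v by abel] at h
  have hκη : pol Q (κ • v) (η • v) = 0 := pol_line S hv κ η
  obtain ⟨G, hG, hGx⟩ := exists_E S.form hQκ hκη
  have hGE : IsE Q (κ • v) (-u' + η • v) (G * E₀) := by
    rw [add_comm]
    exact hGx.mul S.form hQκ hκη hκu hE₀x
  have hGeq := hTE.unique hGE
  refine ⟨G, ?_, hGx⟩
  have h1 : D * T * D⁻¹ * T⁻¹ = G⁻¹ := by
    have hDN : D = E₀ * N := by rw [hN, mul_inv_cancel_left]
    rw [hDN, _root_.mul_inv_rev, show E₀ * N * T * (N⁻¹ * E₀⁻¹) * T⁻¹ = E₀ * (N * T) * N⁻¹ * E₀⁻¹ * T⁻¹ by group, hNT,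
      show E₀ * (T * N) * N⁻¹ * E₀⁻¹ * T⁻¹ = E₀ * (T * E₀ * T⁻¹)⁻¹ by group, hGeq]
    group
  have := M.mul_mem (M.mul_mem (M.mul_mem hD hT) (M.inv_mem hD)) (M.inv_mem hT)
  rw [h1] at this
  exact inv_inv G ▸ M.inv_mem this

/-- singular vectors of a large subspace leave a smaller one -/
theorem exists_singular_avoid_radical {W B : Submodule F (ι → F)}
    (hW : finrank F ↥(W ⊓ qperp S.form W) + 3 ≤ finrank F W)
    (hB : finrank F B < finrank F W) : ∃ e ∈ W, Q e = 0 ∧ e ∉ B := by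
  by_contra hcon
  push Not at hcon
  obtain ⟨R, hR⟩ : ∃ R, R = W ⊓ qperp S.form W := ⟨_, rfl⟩
  obtain ⟨P₀, hP₀⟩ := Submodule.exists_isCompl R
  have hP : NdOn Q (W ⊓ P₀) := by
    intro x hx hx0
    obtain ⟨w, hw, hxw⟩ : ∃ w ∈ W, pol Q x w ≠ 0 := by
      by_contra h
      push Not at h
      exact hx0 ((Submodule.mem_bot F).1 (hP₀.inf_eq_bot ▸ ⟨hR ▸ ⟨hx.1, h⟩, hx.2⟩))
    obtain ⟨s, hs, p, hp, rfl⟩ := Submodule.mem_sup.1 (hP₀.sup_eq_top ▸ Submodule.mem_top : w ∈ R ⊔ P₀)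
    rw [hR] at hs
    have hpW : p ∈ W := by
      have := W.sub_mem hw hs.1
      rwa [add_sub_cancel_left] at this
    rw [padd_right S.form, pcomm x s, hs.2 x hx.1, zero_add] at hxw
    exact ⟨⟨p, ⟨hpW, hp⟩, by rwa [pcomm]⟩, ⟨p, ⟨hpW, hp⟩, hxw⟩⟩
  have h1 := Submodule.finrank_sup_add_finrank_inf_eq W P₀
  have h2 : W ⊔ P₀ = ⊤ := eq_top_iff.2 (hP₀.sup_eq_top ▸ sup_le_sup_right (hR ▸ inf_le_left) _)
  rw [h2, finrank_top, Module.finrank_fintype_fun_eq_card] at h1
  have h3 := Submodule.finrank_add_eq_of_isCompl hP₀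
  rw [Module.finrank_fintype_fun_eq_card] at h3
  rw [← hR] at hW
  obtain ⟨e, he, he0, hQe⟩ := exists_qsingular S.form hP (by omega)
  obtain ⟨f, hf, hQf, hef⟩ := exists_qpartner S.form hP he he0 hQe
  have hle : W ≤ B := fun x hx => by
    obtain ⟨y, hy⟩ : ∃ y, y = x - pol Q x f • e - pol Q x e • f := ⟨_, rfl⟩
    have h6 := pair_proj S.form he.1 hf.1 hQe hQf hef hx
    rw [← hy] at h6
    obtain ⟨hyW, hye, hyf⟩ := (mem_pairPerp S.form).1 h6
    have h7 : y + f - Q y • e ∈ B := hcon _ (W.sub_mem (W.add_mem hyW hf.1) (W.smul_mem _ he.1)) (by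
      rw [qsub S.form, qadd S.form, qsmul S.form, hQf, hQe, psmul_right S.form, padd_left S.form, hye, hyf,
        pcomm f e, hef]
      ring)
    rw [show x = (y + f - Q y • e) + (Q y + pol Q x f) • e + (pol Q x e - 1) • f by rw [hy]; module]
    exact B.add_mem (B.add_mem h7 (B.smul_mem _ (hcon e he.1 hQe))) (B.smul_mem _ (hcon f hf.1 hQf))
  have := Submodule.finrank_mono hle
  omega

/-- singular vectors of a large subspace leave a smaller one -/
theorem exists_singular_avoid {W B : Submodule F (ι → F)} (hW : Fintype.card ι + 3 ≤ 2 * finrank F W)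
    (hB : finrank F B < finrank F W) : ∃ e ∈ W, Q e = 0 ∧ e ∉ B := by
  refine exists_singular_avoid_radical S ?_ hB
  have h4 : finrank F ↥(W ⊓ qperp S.form W) ≤ finrank F (qperp S.form W) := Submodule.finrank_mono inf_le_right
  have h5 := finrank_qperp_add S.form W
  omega

/-- a hyperplane fixed gives long root elements of the line -/
theorem exists_roots (hbig : 2 * finrank F E + 5 ≤ Fintype.card ι) (hsmall : 3 * finrank F E + 3 ≤ Fintype.card ι)
    {g : GL ι F} {v : ι → F} {ρ : E} (H : Hyp S g v ρ) :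
    ∃ κ : E, κ ≠ 0 ∧ tr F E (κ * ρ) = 0 ∧ ∀ η : E, EIn Q M (κ • v) (η • v) := by
  have hv := H.vv
  have hρ := H.ρ0
  have hfix : FixK v ρ g := H.fix
  obtain ⟨y, hy⟩ : ∃ y, y = g ⋆ (ρ⁻¹ • v) := ⟨_, rfl⟩
  obtain ⟨z, hz⟩ : ∃ z, z = ρ⁻¹ • v := ⟨_, rfl⟩
  have hQy : Q y = 0 := by rw [hy, mem_iso.1 (le_iso S H.mem), Q_sing S hv]
  have himg : ∀ p : E, g ⋆ (p • v) = (p - tr F E (p * ρ) • ρ⁻¹) • v + tr F E (p * ρ) • y := fun p => by
    rw [hy, ← mulVec_smul, ← hfix _ (tr_split hρ p), ← mulVec_add, ← smul_assoc, ← add_smul, sub_add_cancel]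
  obtain ⟨B₁, hB₁⟩ : ∃ B₁, B₁ = (Submodule.span E ({v} : Set (ι → F))).restrictScalars F := ⟨_, rfl⟩
  obtain ⟨N, hN⟩ : ∃ N, N = qperp S.form (B₁ ⊔ Submodule.span F {y}) := ⟨_, rfl⟩
  have hdB : finrank F B₁ ≤ finrank F E := hB₁ ▸ finrank_line_le S v
  have hdim : Fintype.card ι ≤ finrank F N + (finrank F E + 1) := by
    have h1 := finrank_qperp S.form (B₁ ⊔ Submodule.span F {y})
    have h2 := Submodule.finrank_add_le_finrank_add_finrank B₁ (Submodule.span F {y})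
    have h3 : finrank F (Submodule.span F ({y} : Set (ι → F))) ≤ 1 := by
      have := finrank_span_le_card (R := F) ({y} : Set (ι → F))
      simpa using this
    rw [← hN] at h1
    omega
  have hNm : ∀ c, c ∈ N → (∀ p : E, pol Q c (p • v) = 0) ∧ pol Q c y = 0 ∧ ∀ p : E, pol Q c (g ⋆ (p • v)) = 0 := by
    intro c hc
    rw [hN] at hc
    have h1 : ∀ p : E, pol Q c (p • v) = 0 := fun p => hc _ (Submodule.mem_sup_left
      (hB₁ ▸ Submodule.smul_mem _ _ (Submodule.mem_span_singleton_self v)))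
    have h2 : pol Q c y = 0 := hc _ (Submodule.mem_sup_right (Submodule.mem_span_singleton_self y))
    exact ⟨h1, h2, fun p => by rw [himg, padd_right S.form, psmul_right S.form, h1, h2, mul_zero, add_zero]⟩
  have hB2 : ∀ a, finrank F ↥((Submodule.span E ({v, a} : Set (ι → F))).restrictScalars F) ≤ 2 * finrank F E := by
    intro a
    let j : E × E →ₗ[F] (ι → F) := (lineMap v).coprod (lineMap a)
    refine le_trans (Submodule.finrank_mono fun x hx => ?_) (le_trans (LinearMap.finrank_range_le j)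
      (by rw [Module.finrank_prod, two_mul]))
    obtain ⟨p, q, rfl⟩ := Submodule.mem_span_pair.1 hx
    exact ⟨(p, q), rfl⟩
  have hper : ∀ c, (∀ p : E, pol Q c (p • v) = 0) → Per Q v ρ c := fun c hc p _ => hc p
  by_cases hπ : pol Q z y = 0
  · -- the image is orthogonal to the line
    have hyv : Bf S y v = 0 := perp_of_pol S fun p => by
      rw [show p • v = (p - tr F E (p * ρ) • ρ⁻¹) • v + tr F E (p * ρ) • z by
        rw [hz, sub_smul, smul_assoc, sub_add_cancel], padd_right S.form, psmul_right S.form, pcomm y z, hπ,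
        mul_zero, add_zero, hy, ← hfix _ (tr_split hρ p), iso_pol (le_iso S H.mem), pol_line S hv]
    have hy1 : y ∉ Submodule.span E ({v} : Set (ι → F)) := fun h => by
      obtain ⟨p, hp⟩ := H.moves
      refine hp ?_
      rw [himg, ← algebraMap_smul E (tr F E (p * ρ)) y]
      exact Submodule.add_mem _ (Submodule.smul_mem _ _ (Submodule.mem_span_singleton_self v))
        (Submodule.smul_mem _ _ h)
    obtain ⟨b, hb, hQb, hbn⟩ := exists_singular_avoid S (W := N)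
      (B := (Submodule.span E ({v, y} : Set (ι → F))).restrictScalars F) (by omega) (by have := hB2 y; omega)
    obtain ⟨hbv, -, hbg⟩ := hNm b hb
    obtain ⟨C, hC, hCK, hCx⟩ := exists_S S H.mem hv hρ hfix hbg
    refine exists_root S hv H.v0 hρ H.tr_ρ hC hCK hyv (perp_of_pol S hbv) hy1 hbn fun x hx => ?_
    have h := hCx x hx
    rw [← hy, hQb, zero_mul, add_zero] at h
    rwa [show x - pol Q x b • y + pol Q x y • b = x + pol Q x y • b - pol Q x b • y by abel]
  obtain ⟨a, ha, hQa, han⟩ := exists_singular_avoid S (W := N) (B := B₁) (by omega) (by omega)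
  obtain ⟨hav, hay, hag⟩ := hNm a ha
  have hdim2 := finrank_inf_pfl S.form N a
  obtain ⟨W, hW⟩ : ∃ W, W = N ⊓ LinearMap.ker (pfl S.form a) := ⟨_, rfl⟩
  rw [← hW] at hdim2
  -- the pair `z`, `y` lies in the orthogonal and off the radical
  have hrad : finrank F ↥(W ⊓ qperp S.form W) + 3 ≤ finrank F W := by
    have hzy : ∀ x ∈ W, pol Q z x = 0 ∧ pol Q y x = 0 := fun x hx => by
      rw [hW] at hx
      obtain ⟨hxv, hxy, -⟩ := hNm x hx.1
      exact ⟨by rw [pcomm, hz]; exact hxv _, by rw [pcomm]; exact hxy⟩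
    let j : F × F →ₗ[F] (ι → F) := (LinearMap.toSpanSingleton F _ z).coprod (LinearMap.toSpanSingleton F _ y)
    have hj : ∀ t, j t = t.1 • z + t.2 • y := fun t => rfl
    have hkey : ∀ t : F × F, pol Q (j t) y = t.1 * pol Q z y ∧ pol Q (j t) z = t.2 * pol Q z y := fun t => by
      constructor
      · rw [hj, padd_left S.form, psmul_left S.form, psmul_left S.form, pself S.form y, hQy]; ring
      · rw [hj, padd_left S.form, psmul_left S.form, psmul_left S.form, pcomm y z,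
          show pol Q z z = 0 from hz ▸ pol_line S hv _ _]
        ring
    have hinj : Function.Injective j := (injective_iff_map_eq_zero j).2 fun t ht => by
      obtain ⟨h1, h2⟩ := hkey t
      rw [ht, pzero_left S.form] at h1 h2
      exact Prod.ext ((mul_eq_zero.1 h1.symm).resolve_right hπ) ((mul_eq_zero.1 h2.symm).resolve_right hπ)
    have hjle : LinearMap.range j ≤ qperp S.form W := by
      rintro _ ⟨t, rfl⟩ x hx
      rw [hj, padd_left S.form, psmul_left S.form, psmul_left S.form, (hzy x hx).1, (hzy x hx).2]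
      ring
    have hbot : (W ⊓ qperp S.form W) ⊓ LinearMap.range j = ⊥ := by
      rw [eq_bot_iff]
      rintro _ ⟨⟨hxW, -⟩, t, rfl⟩
      obtain ⟨h1, h2⟩ := hkey t
      rw [pcomm, (hzy _ hxW).2] at h1
      rw [pcomm, (hzy _ hxW).1] at h2
      have ht : t = 0 := Prod.ext ((mul_eq_zero.1 h1.symm).resolve_right hπ)
        ((mul_eq_zero.1 h2.symm).resolve_right hπ)
      rw [ht, map_zero]
      exact Submodule.zero_mem _
    have h1 := Submodule.finrank_sup_add_finrank_inf_eq (W ⊓ qperp S.form W) (LinearMap.range j)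
    rw [hbot, finrank_bot, LinearMap.finrank_range_of_inj hinj, Module.finrank_prod, Module.finrank_self] at h1
    have h2 : finrank F ↥(W ⊓ qperp S.form W ⊔ LinearMap.range j) ≤ finrank F (qperp S.form W) :=
      Submodule.finrank_mono (sup_le inf_le_right hjle)
    have h3 := finrank_qperp_add S.form W
    omega
  obtain ⟨b, hbW, hQb, hbn⟩ := exists_singular_avoid_radical S (W := W)
    (B := (Submodule.span E ({v, a} : Set (ι → F))).restrictScalars F) hrad (by have := hB2 a; omega)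
  rw [hW] at hbW
  obtain ⟨hb, hba⟩ := hbW
  have hba : pol Q b a = 0 := hba
  obtain ⟨hbv, hby, hbg⟩ := hNm b hb
  obtain ⟨T, hT, hTK, hTx⟩ := exists_S S M.one_mem hv hρ (FixK.one v ρ) (b := a)
    (fun p => by rw [Units.val_one, one_mulVec]; exact hav p)
  obtain ⟨T', hT', hTK', hTx'⟩ := exists_S S M.one_mem hv hρ (FixK.one v ρ) (b := -a)
    (fun p => by rw [Units.val_one, one_mulVec, pneg_left S.form, hav, neg_zero])
  obtain ⟨U, hU, hUK, hUx⟩ := exists_S S H.mem hv hρ hfix hbg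
  obtain ⟨U', hU', hUK', hUx'⟩ := exists_S S H.mem hv hρ hfix (b := -b)
    (fun p => by rw [pneg_left S.form, hbg, neg_zero])
  simp only [Units.val_one, one_mulVec, ← hz, hQa, qneg S.form, zero_mul, add_zero] at hTx hTx'
  simp only [← hy, hQb, qneg S.form, zero_mul, add_zero] at hUx hUx'
  obtain ⟨π, hπd⟩ : ∃ π, π = pol Q z y := ⟨_, rfl⟩
  rw [← hπd] at hπ
  have hyz : pol Q y z = π := by rw [pcomm, hπd]
  have hab : pol Q a b = 0 := by rw [pcomm]; exact hba
  have hza : pol Q z a = 0 := by rw [pcomm, hz]; exact hav _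
  have hzb : pol Q z b = 0 := by rw [pcomm, hz]; exact hbv _
  have haz : pol Q a z = 0 := by rw [pcomm]; exact hza
  have hbz : pol Q b z = 0 := by rw [pcomm]; exact hzb
  have hyb : pol Q y b = 0 := by rw [pcomm]; exact hby
  have hya : pol Q y a = 0 := by rw [pcomm]; exact hay
  have hzz : pol Q z z = 0 := by rw [hz]; exact pol_line S hv _ _
  have hyy : pol Q y y = 0 := by rw [pself S.form, hQy, mul_zero]
  have haa : pol Q a a = 0 := by rw [pself S.form, hQa, mul_zero]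
  have hbb : pol Q b b = 0 := by rw [pself S.form, hQb, mul_zero]
  have hPy : Per Q v ρ y := fun p hp => by rw [hy, ← hfix p hp, iso_pol (le_iso S H.mem), pol_line S hv]
  have hPz : Per Q v ρ z := fun p _ => hz ▸ pol_line S hv _ _
  refine exists_root S hv H.v0 hρ H.tr_ρ (M.mul_mem hT (M.mul_mem hU (M.mul_mem hT' hU')))
    (hTK.mul (hUK.mul (hTK'.mul hUK'))) (a := π • a) (b := b)
    (by rw [Bf_fsmul_left, perp_of_pol S hav, smul_zero]) (perp_of_pol S hbv) (fun h => han (hB₁ ▸ ?_))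
    (fun h => hbn ((Submodule.span_le (R := E) (p := Submodule.span E ({v, a} : Set (ι → F)))).2 ?_ h)) fun x hx => ?_
  · have := Submodule.smul_of_tower_mem (Submodule.span E ({v} : Set (ι → F))) π⁻¹ h
    rwa [smul_smul, inv_mul_cancel₀ hπ, one_smul] at this
  · rintro w (rfl | rfl)
    · exact Submodule.subset_span (by simp)
    · exact Submodule.smul_of_tower_mem _ _ (Submodule.subset_span (by simp))
  have padd : ∀ c d : ι → F, Per Q v ρ c → Per Q v ρ d → Per Q v ρ (c + d) := fun c d hc hd p hp => by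
    rw [padd_left S.form, hc p hp, hd p hp, add_zero]
  have psub : ∀ c d : ι → F, Per Q v ρ c → Per Q v ρ d → Per Q v ρ (c - d) := fun c d hc hd p hp => by
    rw [psub_left S.form, hc p hp, hd p hp, sub_zero]
  have psm : ∀ (t : F) (c : ι → F), Per Q v ρ c → Per Q v ρ (t • c) := fun t c hc p hp => by
    rw [psmul_left S.form, hc p hp, mul_zero]
  have hPa := hper a hav
  have hPb := hper b hbv
  obtain ⟨x₁, hx₁⟩ : ∃ x₁, x₁ = x - pol Q x y • b + pol Q x b • y := ⟨_, rfl⟩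
  obtain ⟨x₂, hx₂⟩ : ∃ x₂, x₂ = x₁ - (pol Q x z + π * pol Q x b) • a + pol Q x a • z := ⟨_, rfl⟩
  obtain ⟨x₃, hx₃⟩ : ∃ x₃, x₃ = x - (pol Q x z + π * pol Q x b) • a + pol Q x a • z + (π * pol Q x a) • b := ⟨_, rfl⟩
  have hP1 : Per Q v ρ x₁ := hx₁ ▸ padd _ _ (psub _ _ hx (psm _ _ hPb)) (psm _ _ hPy)
  have hP2 : Per Q v ρ x₂ := hx₂ ▸ padd _ _ (psub _ _ hP1 (psm _ _ hPa)) (psm _ _ hPz)
  have hP3 : Per Q v ρ x₃ := hx₃ ▸ padd _ _ (padd _ _ (psub _ _ hx (psm _ _ hPa)) (psm _ _ hPz)) (psm _ _ hPb)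
  have e1 : U' ⋆ x - x₁ ∈ kv v ρ := by
    have h := hUx' x hx
    rw [pneg_right S.form] at h
    convert h using 2
    rw [hx₁]; module
  have e2 : T' ⋆ x₁ - x₂ ∈ kv v ρ := by
    have h := hTx' x₁ hP1
    rw [pneg_right S.form] at h
    convert h using 2
    rw [hx₂, hx₁]
    simp only [padd_left S.form, psub_left S.form, psmul_left S.form, hbz, hyz, hba, hya]
    module
  have e3 : U ⋆ x₂ - x₃ ∈ kv v ρ := by
    have h := hUx x₂ hP2
    convert h using 2
    rw [hx₃, hx₂, hx₁]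
    simp only [padd_left S.form, psub_left S.form, psmul_left S.form, hby, hyy, hay, ← hπd, hbb, hyb, hab, hzb]
    module
  have e4 : T ⋆ x₃ - (x - pol Q x b • π • a + pol Q x (π • a) • b) ∈ kv v ρ := by
    have h := hTx x₃ hP3
    convert h using 2
    rw [hx₃]
    simp only [padd_left S.form, psub_left S.form, psmul_left S.form, psmul_right S.form, haz, hzz, hbz, haa, hza,
      hba]
    module
  exact hTK.trans (hUK.trans (hTK'.trans e1 e2) e3) e4

end CfsgLib.Perm.Trans.OrthExt
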