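import Cfsg.Agent.Lib.Perm.Trans.OrthExt.Root

/-!
# Overgroups over an extension field: a centre of all Eichler transformations

The long root elements of a singular line spread to all vectors orthogonal to a fixed hyperplane of it, and the
scalings move the hyperplane through every one containing a given vector.
-/

set_option autoImplicit false
set_option linter.all false

namespace CfsgLib.Perm.Trans.OrthExt

open scoped Matrix
open Matrix Module Cfsg.Geo CfsgLib.Perm.Asch CfsgLib.Perm.Trans CfsgLib.Perm.Trans.Quad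
open CfsgLib.Perm.Trans.Symp.Ext (tr trDual trDual_apply tr_ext tr_smul_one exists_tr_separate)

variable {ι : Type} [Fintype ι] [DecidableEq ι] {F : Type*} [Field F] [Fintype F]
variable {E : Type*} [Field E] [Algebra F E] [FiniteDimensional F E]
variable [Module E (ι → F)] [IsScalarTower F E (ι → F)]
variable {Q : (ι → F) → F}

local notation "pol" => QuadraticMap.polar
local notation:75 g " ⋆ " x:75 => (Units.val g : Matrix ι ι F) *ᵥ x

variable {M : Subgroup (GL ι F)} (S : OData E Q M)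
include S

theorem eSub_conj {m : GL ι F} (hm : m ∈ M) {x x' : ι → F} {hx : Q x = 0} {hx' : Q x' = 0} (h : m ⋆ x = x')
    {a : ι → F} (ha : a ∈ eSub S.form M x hx) : m ⋆ a ∈ eSub S.form M x' hx' := by
  refine ⟨by rw [← h, iso_pol (le_iso S hm)]; exact ha.1, fun s => ?_⟩
  have h1 := (ha.2 s).conj (le_iso S hm) hm
  rwa [h, mulVec_smul] at h1

/-- every element of the field is a square times a scalar when the degree is odd -/
theorem exists_scalar_sq (hr : 3 ≤ finrank F E) {c : E} (hc : c ≠ 0) :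
    ∃ (t : F) (d : E), t ≠ 0 ∧ d ≠ 0 ∧ c = t • (d * d) := by
  classical
  haveI : Finite E := Module.finite_of_finite F
  haveI : Fintype E := Fintype.ofFinite E
  rcases em (IsSquare c) with ⟨d, rfl⟩ | hns
  · exact ⟨1, d, one_ne_zero, fun h => hc (by rw [h, mul_zero]), (one_smul F _).symm⟩
  have h2F : ringChar F ≠ 2 := fun h => S.two (by
    have := ringChar.Nat.cast_ringChar (R := F)
    rw [h] at this
    exact_mod_cast this)
  have h2E : ringChar E ≠ 2 := fun h => two_E S (by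
    have := ringChar.Nat.cast_ringChar (R := E)
    rw [h] at this
    exact_mod_cast this)
  obtain ⟨u, hu⟩ := FiniteField.exists_nonsquare h2F
  have hu0 : u ≠ 0 := fun h => hu ⟨0, by rw [h, mul_zero]⟩
  have huE : ¬ IsSquare (algebraMap F E u) := by
    rintro ⟨d, hd⟩
    let A : Submodule F E := LinearMap.range ((LinearMap.toSpanSingleton F E 1).coprod (LinearMap.toSpanSingleton F E d))
    have hA : ∀ z, z ∈ A ↔ ∃ a b : F, a • (1 : E) + b • d = z := fun z => by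
      simp only [A, LinearMap.mem_range, Prod.exists, LinearMap.coprod_apply, LinearMap.toSpanSingleton_apply]
    have h1A : (1 : E) ∈ A := (hA 1).2 ⟨1, 0, by simp⟩
    have hmA : ∀ x y, x ∈ A → y ∈ A → x * y ∈ A := by
      intro x y hx hy
      obtain ⟨a, b, rfl⟩ := (hA x).1 hx
      obtain ⟨a', b', rfl⟩ := (hA y).1 hy
      refine (hA _).2 ⟨a * a' + b * b' * u, a * b' + b * a', ?_⟩
      simp only [Algebra.smul_def, map_add, map_mul, hd]
      ring
    haveI := Subalgebra.isSimpleOrder_of_finrank_prime F E S.prime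
    rcases IsSimpleOrder.eq_bot_or_eq_top (A.toSubalgebra h1A hmA) with hA' | hA'
    · have h1 : d ∈ A.toSubalgebra h1A hmA := (hA d).2 ⟨0, 1, by simp⟩
      rw [hA', Algebra.mem_bot] at h1
      obtain ⟨e, he⟩ := h1
      exact hu ⟨e, (algebraMap F E).injective (by rw [map_mul, he, hd])⟩
    · have h1 : (⊤ : Submodule F E) ≤ A := fun z _ => (hA' ▸ Algebra.mem_top : z ∈ A.toSubalgebra h1A hmA)
      have h2 := (Submodule.finrank_mono h1).trans (LinearMap.finrank_range_le _)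
      rw [finrank_top, Module.finrank_prod, Module.finrank_self] at h2
      omega
  have huE0 : algebraMap F E u ≠ 0 := by simpa using hu0
  have h1 : IsSquare (c * algebraMap F E u) := by
    rw [← quadraticChar_one_iff_isSquare (mul_ne_zero hc huE0), map_mul,
      quadraticChar_neg_one_iff_not_isSquare.2 hns, quadraticChar_neg_one_iff_not_isSquare.2 huE]
    norm_num
  obtain ⟨d, hd⟩ := h1
  refine ⟨u⁻¹, d, inv_ne_zero hu0, fun h => mul_ne_zero hc huE0 (by rw [hd, h, mul_zero]), ?_⟩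
  rw [← hd, Algebra.smul_def, map_inv₀]
  field_simp

/-- long root elements at one vector of the line give them at all -/
theorem full_line (hr : 3 ≤ finrank F E) {v : ι → F} (hv : Bf S v v = 0) (hv0 : v ≠ 0) {κ : E} (hκ : κ ≠ 0)
    (hroot : ∀ η : E, EIn Q M (κ • v) (η • v)) {p : E} (hp : p ≠ 0) (η : E) : EIn Q M (p • v) (η • v) := by
  obtain ⟨t, d, ht, hd, htd⟩ := exists_scalar_sq S hr (div_ne_zero hp hκ)
  obtain ⟨m, hm, hmv⟩ := exists_scale S hv hv0 hd
  have h1 := (hroot (t • η / (d * d))).conj (le_iso S hm) hm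
  rw [hmv, hmv, div_mul_cancel₀ _ (mul_ne_zero hd hd)] at h1
  obtain ⟨g, hg, hgE⟩ := h1
  refine ⟨g, hg, ?_⟩
  have hp' : p = t • (κ * (d * d)) := by rw [← mul_smul_comm, ← htd, mul_div_cancel₀ _ hκ]
  rw [smul_assoc] at hgE
  have h2 := hgE.smul S.form
  rwa [hp', smul_assoc]

/-- the vectors of a line in `eSub` of its vectors -/
theorem line_mem {v : ι → F} (hv : Bf S v v = 0) {κ : E} (hroot : ∀ η : E, EIn Q M (κ • v) (η • v)) (p : E) :
    p • v ∈ eSub S.form M (κ • v) (Q_sing S hv κ) :=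
  ⟨pol_line S hv κ p, fun s => by rw [← smul_assoc]; exact hroot _⟩

/-- one vector off the orthogonal of the line gives everything orthogonal to the hyperplane -/
theorem per_le {g : GL ι F} {v : ι → F} {ρ : E} (H : Hyp S g v ρ) {κ : E} (hκρ : tr F E (κ * ρ) = 0)
    (hroot : ∀ η : E, EIn Q M (κ • v) (η • v)) {z : ι → F}
    (hz : z ∈ eSub S.form M (κ • v) (Q_sing S H.vv κ)) (hzv : Bf S z v ≠ 0) {x : ι → F} (hx : Per Q v ρ x) :
    x ∈ eSub S.form M (κ • v) (Q_sing S H.vv κ) := by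
  obtain ⟨A, hA⟩ : ∃ A, A = eSub S.form M (κ • v) (Q_sing S H.vv κ) := ⟨_, rfl⟩
  rw [← hA] at hz ⊢
  have hv := H.vv
  have hline : ∀ p : E, p • v ∈ A := hA ▸ line_mem S hv hroot
  have hinv : ∀ m ∈ M, m ⋆ (κ • v) = κ • v → ∀ a ∈ A, m ⋆ a ∈ A := fun m hm h a ha => by
    rw [hA] at ha ⊢; exact eSub_conj S hm h ha
  have hperp : ∀ a, Bf S a v = 0 → a ∈ A := by
    intro a ha
    obtain ⟨b, hb⟩ : ∃ b, b = (Bf S z v)⁻¹ • a := ⟨_, rfl⟩
    have hbv : Bf S b v = 0 := by rw [hb, Bf_smul_left, ha, mul_zero]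
    have hnb : Bf S (-b) v = 0 := by rw [Bf_neg_left, hbv, neg_zero]
    obtain ⟨T, hT, hTb⟩ := exists_T S hv hbv
    obtain ⟨T', hT', hTb'⟩ := exists_T S hv hnb
    have h1 := half_mem S (E := E) (A.sub_mem (A.sub_mem (hinv T hT (hTb.fix_line hv hbv κ) z hz) hz)
      (A.sub_mem (hinv T' hT' (hTb'.fix_line hv hnb κ) z hz) hz))
    rw [← hTb.double (y := z) hTb' rfl] at h1
    have h2 := A.add_mem h1 (hline (Bf S z b))
    rwa [sub_add_cancel, hb, smul_smul, mul_inv_cancel₀ hzv, one_smul] at h2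
  have hρ := H.ρ0
  obtain ⟨x₁, hx₁, hx₁z⟩ : ∃ x₁, Bf S x₁ v = 0 ∧ pol Q (g ⋆ x₁) (ρ⁻¹ • v) ≠ 0 := by
    by_contra hcon
    push Not at hcon
    obtain ⟨q, hq⟩ := Submodule.mem_span_singleton.1 (mem_line_of_perp S (v := v) (y := g⁻¹ ⋆ (ρ⁻¹ • v))
      fun a ha => by rw [← iso_pol (le_iso S H.mem), gl_mulVec_inv, pcomm]; exact hcon a ha)
    have h1 : g ⋆ (q • v) = ρ⁻¹ • v := by rw [hq, gl_mulVec_inv]
    have hsplit : ∀ p : E, p • v = (p - tr F E (p * ρ) • ρ⁻¹) • v + tr F E (p * ρ) • ρ⁻¹ • v := fun p => by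
      rw [sub_smul, smul_assoc, sub_add_cancel]
    rw [hsplit q, mulVec_add, mulVec_smul, H.fix _ (tr_split hρ q)] at h1
    by_cases ht : tr F E (q * ρ) = 0
    · rw [ht, zero_smul, zero_smul, sub_zero, add_zero] at h1
      have h2 := smul_left_injective E H.v0 h1
      rw [h2, inv_mul_cancel₀ hρ, ← one_smul F (1 : E), tr_smul_one] at ht
      exact one_ne_zero ht
    have hy : g ⋆ (ρ⁻¹ • v) ∈ Submodule.span E ({v} : Set (ι → F)) := by
      have hm : tr F E (q * ρ) • (g ⋆ (ρ⁻¹ • v)) ∈ Submodule.span E ({v} : Set (ι → F)) := by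
        rw [eq_sub_of_add_eq' h1, ← sub_smul]
        exact Submodule.smul_mem _ _ (Submodule.mem_span_singleton_self v)
      have := Submodule.smul_of_tower_mem (Submodule.span E ({v} : Set (ι → F))) (tr F E (q * ρ))⁻¹ hm
      rwa [smul_smul, inv_mul_cancel₀ ht, one_smul] at this
    obtain ⟨p, hp⟩ := H.moves
    refine hp ?_
    rw [hsplit p, mulVec_add, mulVec_smul, H.fix _ (tr_split hρ p)]
    exact Submodule.add_mem _ (Submodule.smul_mem _ _ (Submodule.mem_span_singleton_self v))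
      (Submodule.smul_of_tower_mem _ _ hy)
  have hg₁ : g ⋆ x₁ ∈ A := hinv g H.mem (H.fix κ hκρ) x₁ (hperp x₁ hx₁)
  obtain ⟨t, ht⟩ : ∃ t, t = pol Q x (ρ⁻¹ • v) / pol Q (g ⋆ x₁) (ρ⁻¹ • v) := ⟨_, rfl⟩
  have hP : Per Q v ρ (x - t • (g ⋆ x₁)) := fun p hp => by
    rw [psub_left S.form, psmul_left S.form, hx p hp]
    conv_lhs => rw [← H.fix p hp, iso_pol (le_iso S H.mem), pol_of_perp S hx₁]
    ring
  have hB : Bf S (x - t • (g ⋆ x₁)) v = 0 := by
    rw [per_Bf S hρ hP, psub_left S.form, psmul_left S.form, ht, div_mul_cancel₀ _ hx₁z, sub_self, zero_smul]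
  have h := A.add_mem (hperp _ hB) (A.smul_mem t hg₁)
  rwa [sub_add_cancel] at h

/-- a vector off the orthogonal of the line, from the image of the line -/
theorem exists_off {g : GL ι F} {v : ι → F} {ρ : E} (H : Hyp S g v ρ) {κ : E} (hκρ : tr F E (κ * ρ) = 0)
    (hκ : κ ≠ 0) (hroot : ∀ η : E, EIn Q M (κ • v) (η • v))
    (h : Bf S (g ⋆ (ρ⁻¹ • v)) v ≠ 0 ∨
      3 ≤ finrank F E ∧ ∀ (p : E), p ≠ 0 → ∀ η : E, EIn Q M (p • v) (η • v)) :
    ∃ z ∈ eSub S.form M (κ • v) (Q_sing S H.vv κ), Bf S z v ≠ 0 := by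
  have hv := H.vv
  obtain ⟨y, hy⟩ : ∃ y, y = g ⋆ (ρ⁻¹ • v) := ⟨_, rfl⟩
  have hyA : y ∈ eSub S.form M (κ • v) (Q_sing S hv κ) :=
    hy ▸ eSub_conj S H.mem (H.fix κ hκρ) (line_mem S hv hroot _)
  rw [← hy] at h
  by_cases hyv : Bf S y v = 0
  swap
  · exact ⟨y, hyA, hyv⟩
  obtain ⟨hr, hall⟩ := h.resolve_left (not_not.2 hyv)
  have hy1 : y ∉ Submodule.span E ({v} : Set (ι → F)) := fun hy1 => by
    obtain ⟨p, hp⟩ := H.moves
    refine hp ?_
    rw [show p • v = (p - tr F E (p * ρ) • ρ⁻¹) • v + tr F E (p * ρ) • ρ⁻¹ • v by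
      rw [sub_smul, smul_assoc, sub_add_cancel], mulVec_add, mulVec_smul, H.fix _ (tr_split H.ρ0 p), ← hy]
    exact Submodule.add_mem _ (Submodule.smul_mem _ _ (Submodule.mem_span_singleton_self v))
      (Submodule.smul_of_tower_mem _ _ hy1)
  obtain ⟨f, -, hf, hvf⟩ := exists_partner S (nd_top S) Submodule.mem_top H.v0 hv
  -- a pairing outside the scalar multiples
  obtain ⟨τ, hτ⟩ : ∃ τ : E, τ ∉ Submodule.span F ({κ} : Set E) := by
    by_contra hc
    push Not at hc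
    have h1 := Submodule.finrank_mono (show (⊤ : Submodule F E) ≤ Submodule.span F {κ} from fun z _ => hc z)
    rw [finrank_top, finrank_span_singleton hκ] at h1
    omega
  obtain ⟨a₀, ha₀, hya₀⟩ := exists_sep_line S hy1
  obtain ⟨a, ha⟩ : ∃ a, a = (τ - Bf S y f) • a₀ := ⟨_, rfl⟩
  have hav : Bf S a v = 0 := by rw [ha, Bf_smul_left, ha₀, mul_zero]
  obtain ⟨w, hw⟩ : ∃ w, w = f + a - (Bf S f a + Bf S a a / 2) • v := ⟨_, rfl⟩
  have hva : Bf S v a = 0 := by rw [Bf_comm S]; exact hav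
  have hfv : Bf S f v = 1 := by rw [Bf_comm S]; exact hvf
  have hvw : Bf S v w = 1 := by
    rw [hw, Bf_sub_right, Bf_add_right, Bf_smul_right, hvf, hva, hv]; ring
  have hww : Bf S w w = 0 := by
    simp only [hw, Bf_sub_left, Bf_sub_right, Bf_add_left, Bf_add_right, Bf_smul_left, Bf_smul_right, hf, hva, hav,
      hfv, hvf, hv, Bf_comm S a f]
    have := two_E S
    field_simp
    ring
  have hyw : Bf S y w = τ := by
    rw [hw, Bf_sub_right, Bf_add_right, Bf_smul_right, hyv, ha, Bf_smul_right, hya₀]; ring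
  obtain ⟨p, hpκ, hpτ⟩ := exists_tr_separate (F := F) hτ
  have hpκ' : tr F E (p * κ) = 0 := hpκ κ (Submodule.mem_span_singleton_self κ)
  obtain ⟨η, hηm, hη0⟩ := Submodule.exists_mem_ne_zero_of_ne_bot (LinearMap.ker_ne_bot_of_finrank_lt
    (f := ((tr F E).comp (LinearMap.mulRight F κ)).prod ((tr F E).comp (LinearMap.mulRight F τ)))
    (by rw [Module.finrank_prod, Module.finrank_self]; omega))
  rw [LinearMap.mem_ker, LinearMap.prod_apply, Prod.ext_iff] at hηm
  have hηκ : tr F E (η * κ) = 0 := hηm.1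
  have hητ : tr F E (η * τ) = 0 := hηm.2
  have hp0 : p ≠ 0 := fun h => by rw [h, zero_mul, map_zero] at hpτ; exact zero_ne_one hpτ
  obtain ⟨m, hm, ζ, hζ, hmv⟩ := exists_to S hv hww (by rw [hvw]; exact one_ne_zero)
  have h1 := (hall (p / ζ) (div_ne_zero hp0 hζ) (η / ζ)).conj (le_iso S hm) hm
  rw [hmv, hmv, div_mul_cancel₀ _ hζ, div_mul_cancel₀ _ hζ] at h1
  obtain ⟨R, hR, hRx⟩ := h1
  have hQη : Q (η • w) = 0 := Q_sing S hww η
  have hRκ : R ⋆ (κ • v) = κ • v := by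
    rw [hRx, pol_smul_right S, pol_smul_right S, Bf_smul_left, hvw, mul_one, hpκ', hηκ, hQη]
    simp
  have hRy : R ⋆ y = y + η • w := by
    rw [hRx, pol_smul_right S, pol_smul_right S, hyw, hpτ, hητ, hQη]
    simp
  have h2 := Submodule.sub_mem _ (eSub_conj S hR hRκ (hx' := Q_sing S hv κ) hyA) hyA
  rw [hRy, add_sub_cancel_left] at h2
  exact ⟨η • w, h2, by rw [Bf_smul_left, Bf_comm S w, hvw, mul_one]; exact hη0⟩

/-- in degree two the image of the line can be made non-orthogonal to it -/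
theorem convert {g : GL ι F} {v : ι → F} {ρ : E} (H : Hyp S g v ρ) (h5 : 5 ≤ finrank E (ι → F)) :
    ∃ g', Hyp S g' v ρ ∧ Bf S (g' ⋆ (ρ⁻¹ • v)) v ≠ 0 := by
  haveI := finE S
  have hv := H.vv
  obtain ⟨y, hy⟩ : ∃ y, y = g ⋆ (ρ⁻¹ • v) := ⟨_, rfl⟩
  by_cases hyv : Bf S y v = 0
  swap
  · exact ⟨g, H, hy ▸ hyv⟩
  have hyy : pol Q y y = 0 := by rw [hy, iso_pol (le_iso S H.mem), pol_line S hv]
  have hy1 : y ∉ Submodule.span E ({v} : Set (ι → F)) := fun hy1 => by
    obtain ⟨p, hp⟩ := H.moves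
    refine hp ?_
    rw [show p • v = (p - tr F E (p * ρ) • ρ⁻¹) • v + tr F E (p * ρ) • ρ⁻¹ • v by
      rw [sub_smul, smul_assoc, sub_add_cancel], mulVec_add, mulVec_smul, H.fix _ (tr_split H.ρ0 p), ← hy]
    exact Submodule.add_mem _ (Submodule.smul_mem _ _ (Submodule.mem_span_singleton_self v))
      (Submodule.smul_of_tower_mem _ _ hy1)
  obtain ⟨f, -, hf, hvf⟩ := exists_partner S (nd_top S) Submodule.mem_top H.v0 hv
  obtain ⟨y₀, hy₀⟩ : ∃ y₀, y₀ = y - Bf S y f • v := ⟨_, rfl⟩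
  have hy₀W : y₀ ∈ pperp S v f := (mem_pperp S).2 ⟨by rw [hy₀, Bf_sub_left, Bf_smul_left, hyv, hv]; ring,
    by rw [hy₀, Bf_sub_left, Bf_smul_left, hvf]; ring⟩
  have hnd := pperp_nd S hv hf hvf
  obtain ⟨u, huW, huu, hyu⟩ : ∃ u ∈ pperp S v f, Bf S u u = 0 ∧ Bf S y₀ u ≠ 0 := by
    by_contra hc
    push Not at hc
    have hy₀0 : y₀ ≠ 0 := fun h0 => hy1 (Submodule.mem_span_singleton.2
      ⟨Bf S y f, (sub_eq_zero.1 (hy₀ ▸ h0)).symm⟩)
    obtain ⟨a, ha, b, hb, haa, hbb, hab⟩ := exists_pairE S hnd (by have := finrank_pperp S v f; omega)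
    obtain ⟨z, hz, hyz⟩ := hnd y₀ hy₀W hy₀0
    have h1 := le_of_singularE S (S' := (LinearMap.ker (Bl S y₀)).restrictScalars F) ha hb haa hbb hab
      (fun w hw hww => by
        show Bf S w y₀ = 0
        rw [Bf_comm S]
        exact hc w hw hww) hz
    exact hyz (by rw [Bf_comm S]; exact h1)
  obtain ⟨huv, -⟩ := (mem_pperp S).1 huW
  have hvu : Bf S v u = 0 := by rw [Bf_comm S]; exact huv
  have hyu' : Bf S y u ≠ 0 := by
    rw [hy₀, Bf_sub_left, Bf_smul_left, hvu, mul_zero, sub_zero] at hyu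
    exact hyu
  obtain ⟨a, hav, hau, haa⟩ : ∃ a, Bf S a v = 0 ∧ Bf S a u = 0 ∧ Bf S a a ≠ 0 := by
    by_contra hc
    push Not at hc
    obtain ⟨x, hx, hxn⟩ : ∃ x ∈ LinearMap.ker (Bl S v) ⊓ LinearMap.ker (Bl S u),
        x ∉ Submodule.span E ({v, u} : Set (ι → F)) := by
      by_contra hc'
      push Not at hc'
      have h1 := Submodule.finrank_mono (show LinearMap.ker (Bl S v) ⊓ LinearMap.ker (Bl S u) ≤
        Submodule.span E ({v, u} : Set (ι → F)) from hc')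
      have h2 := finrank_pperp S v u
      rw [pperp] at h2
      classical
      have h3 : finrank E (Submodule.span E ({v, u} : Set (ι → F))) ≤ 2 := by
        rw [← show (↑({v, u} : Finset (ι → F)) : Set (ι → F)) = {v, u} by simp]
        exact (finrank_span_finset_le_card _).trans Finset.card_le_two
      omega
    obtain ⟨c, hc₁, hxc⟩ := exists_sep S hxn
    have hcv : Bf S c v = 0 := by rw [Bf_comm S]; exact hc₁ v (Submodule.subset_span (by simp))
    have hcu : Bf S c u = 0 := by rw [Bf_comm S]; exact hc₁ u (Submodule.subset_span (by simp))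
    have hxv : Bf S x v = 0 := hx.1
    have hxu : Bf S x u = 0 := hx.2
    have h := hc (x + c) (by rw [Bf_add_left, hxv, hcv, add_zero]) (by rw [Bf_add_left, hxu, hcu, add_zero])
    rw [Bf_add_left, Bf_add_right, Bf_add_right, hc x hxv hxu, hc c hcv hcu, Bf_comm S c x, hxc, zero_add,
      add_zero] at h
    exact two_E S (by rw [← one_add_one_eq_two]; exact h)
  obtain ⟨X, hX⟩ : ∃ X, X = Bf S a a * (Bf S y u * Bf S y u) := ⟨_, rfl⟩
  have hX0 : X ≠ 0 := hX ▸ mul_ne_zero haa (mul_ne_zero hyu' hyu')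
  obtain ⟨ζ, hζ⟩ : ∃ ζ : E, tr F E (ζ * ζ * X) ≠ 0 := by
    by_contra hc
    push Not at hc
    refine hX0 (tr_ext (F := F) fun q => ?_)
    have h1 := hc (q + 1)
    rw [show (q + 1) * (q + 1) * X = q * q * X + 1 * 1 * X + (2 : F) • (q * X) by
      rw [Algebra.smul_def, map_ofNat]; ring, map_add, map_add, map_smul, hc q, hc 1, zero_add, zero_add,
      smul_eq_mul] at h1
    rw [mul_zero, map_zero, (mul_eq_zero.1 h1).resolve_left S.two]
  have hζa : Bf S (ζ • a) u = 0 := by rw [Bf_smul_left, hau, mul_zero]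
  obtain ⟨T, hT, hTa⟩ := exists_T S huu hζa
  have hTv : ∀ p : E, T ⋆ (p • v) = p • v := fun p => hTa.fix
    (by rw [Bf_smul_left, hvu, mul_zero]) (by rw [Bf_smul_left, Bf_smul_right, Bf_comm S v a, hav, mul_zero, mul_zero])
  have hne : pol Q ((g⁻¹ * T * g) ⋆ (ρ⁻¹ • v)) (ρ⁻¹ • v) ≠ 0 := by
    rw [← iso_pol (le_iso S H.mem), gl_mul_mulVec, gl_mul_mulVec, gl_mulVec_inv, ← hy, hTa, psub_left S.form,
      padd_left S.form, hyy, pol_smul_left S, pol_smul_left S, zero_add, ← map_sub]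
    intro h
    apply hζ
    have e : Bf S y u * Bf S (ζ • a) y - (Bf S y (ζ • a) + Bf S (ζ • a) (ζ • a) / 2 * Bf S y u) * Bf S u y =
        (-(2 : F)⁻¹) • (ζ * ζ * X) := by
      rw [Bf_comm S (ζ • a) y, Bf_comm S u y, Bf_smul_left, Bf_smul_right S ζ a a, hX, Algebra.smul_def, map_neg,
        map_inv₀, map_ofNat]
      ring
    rw [e, map_smul, smul_eq_mul] at h
    exact (mul_eq_zero.1 h).resolve_left (neg_ne_zero.2 (inv_ne_zero S.two))
  refine ⟨g⁻¹ * T * g, ⟨M.mul_mem (M.mul_mem (M.inv_mem H.mem) hT) H.mem, H.v0, hv, H.ρ0, H.tr_ρ, fun p hp => ?_,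
    ⟨ρ⁻¹, fun hmem => ?_⟩⟩, fun h0 => hne ?_⟩
  · rw [gl_mul_mulVec, gl_mul_mulVec, H.fix p hp, hTv]
    nth_rewrite 1 [← H.fix p hp]
    rw [gl_inv_mulVec]
  · obtain ⟨q, hq⟩ := Submodule.mem_span_singleton.1 hmem
    exact hne (by rw [← hq]; exact pol_line S hv q _)
  · rw [pol_smul_right S, h0, mul_zero, map_zero]

/-- all long root elements of a line and a hyperplane fixed give a centre -/
theorem centre_of_roots (hr : 3 ≤ finrank F E) {g : GL ι F} {v : ι → F} {ρ : E} (H : Hyp S g v ρ)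
    (hall : ∀ (p : E), p ≠ 0 → ∀ η : E, EIn Q M (p • v) (η • v)) :
    ∃ κ : E, κ ≠ 0 ∧ κ • v ∈ eCentres Q M := by
  have hv := H.vv
  refine ⟨1, one_ne_zero, mem_eCentres_of_eSub (hQ := S.form) (hx := Q_sing S hv 1) fun x hx => ?_⟩
  have hper : ∀ (κ : E), κ ≠ 0 → tr F E (κ * ρ) = 0 → ∀ x, Per Q v ρ x →
      x ∈ eSub S.form M (κ • v) (Q_sing S hv κ) := fun κ hκ hκρ x hx => by
    obtain ⟨z, hz, hzv⟩ := exists_off S H hκρ hκ (hall κ hκ) (Or.inr ⟨hr, hall⟩)
    exact per_le S H hκρ (hall κ hκ) hz hzv hx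
  by_cases hxv : Bf S x v = 0
  · exact hper 1 one_ne_zero (by rw [one_mul]; exact H.tr_ρ) x fun p _ => pol_of_perp S hxv p
  obtain ⟨t, d, ht, hd, htd⟩ := exists_scalar_sq S hr (div_ne_zero H.ρ0 hxv)
  obtain ⟨m, hm, hmv⟩ := exists_scale S hv H.v0 hd
  have hρe : ρ = t • (d * d * Bf S x v) := by rw [← smul_mul_assoc, ← htd, div_mul_cancel₀ _ hxv]
  have hdd := mul_ne_zero hd hd
  have hPx : Per Q v ρ (m⁻¹ ⋆ x) := fun p hp => by
    rw [← iso_pol (le_iso S hm), gl_mulVec_inv, hmv, pol_smul_right S]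
    rw [hρe, mul_smul_comm, map_smul, smul_eq_mul, mul_eq_zero] at hp
    rw [← hp.resolve_left ht, mul_assoc]
  have htr : tr F E ((d * d)⁻¹ * ρ) = 0 := by
    rw [hρe, mul_smul_comm, inv_mul_cancel_left₀ hdd, map_smul]
    have h := hx
    rw [pcomm, pol_smul_right S, one_mul] at h
    rw [h, smul_zero]
  have h1 := eSub_conj S hm (hx' := Q_sing S hv 1) (by rw [hmv, inv_mul_cancel₀ hdd])
    (hper _ (inv_ne_zero hdd) htr _ hPx)
  rwa [gl_mulVec_inv] at h1

/-- a hyperplane fixed gives a centre -/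
theorem exists_centre (hbig : 2 * finrank F E + 5 ≤ Fintype.card ι) (hsmall : 3 * finrank F E + 3 ≤ Fintype.card ι)
    (h5 : finrank F E = 2 → 5 ≤ finrank E (ι → F)) {g : GL ι F} {v : ι → F} {ρ : E} (H : Hyp S g v ρ) :
    ∃ κ : E, κ ≠ 0 ∧ κ • v ∈ eCentres Q M := by
  have hv := H.vv
  by_cases hr : 3 ≤ finrank F E
  swap
  · have hr2 : finrank F E = 2 := by have := S.prime.two_le; omega
    obtain ⟨g', H', hy⟩ := convert S H (h5 hr2)
    obtain ⟨κ, hκ, hκρ, hroot⟩ := exists_roots S hbig hsmall H'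
    obtain ⟨z, hz, hzv⟩ := exists_off S H' hκρ hκ hroot (Or.inl hy)
    refine ⟨κ, hκ, mem_eCentres_of_eSub (hQ := S.form) (hx := Q_sing S hv κ) fun x hx =>
      per_le S H' hκρ hroot hz hzv fun p hp => ?_⟩
    let Kp : Submodule F E := LinearMap.ker ((tr F E).comp (LinearMap.mulRight F ρ))
    have hmem : ∀ q, q ∈ Kp ↔ tr F E (q * ρ) = 0 := fun q => Iff.rfl
    have h1 : finrank F Kp < finrank F E := Submodule.finrank_lt fun htop => by
      have h2 : ρ⁻¹ ∈ Kp := htop ▸ Submodule.mem_top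
      rw [hmem, inv_mul_cancel₀ H.ρ0, ← one_smul F (1 : E), tr_smul_one] at h2
      exact one_ne_zero h2
    have h3 : Submodule.span F ({κ} : Set E) = Kp := Submodule.eq_of_le_of_finrank_le
      ((Submodule.span_singleton_le_iff_mem _ _).2 ((hmem κ).2 hκρ)) (by rw [finrank_span_singleton hκ]; omega)
    obtain ⟨t, rfl⟩ := Submodule.mem_span_singleton.1 (h3 ▸ (hmem p).2 hp : p ∈ Submodule.span F {κ})
    rw [smul_assoc, psmul_right S.form, pcomm x, hx, mul_zero]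
  obtain ⟨κ₀, hκ₀, hκρ₀, hroot₀⟩ := exists_roots S hbig hsmall H
  exact centre_of_roots S hr H fun p hp η => full_line S hr hv H.v0 hκ₀ hroot₀ hp η

/-- a centre and its image in general position -/
theorem exists_opposite {v : ι → F} (hv : Bf S v v = 0) (hv0 : v ≠ 0) {κ : E} (hκ : κ ≠ 0)
    (h : κ • v ∈ eCentres Q M) : ∃ e ∈ eCentres Q M, ∃ f ∈ eCentres Q M, pol Q e f ≠ 0 := by
  obtain ⟨f, -, hf, hvf⟩ := exists_partner S (nd_top S) Submodule.mem_top hv0 hv
  obtain ⟨a, ha, haa⟩ := exists_aniso_pperp S hv hf hvf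
  obtain ⟨hav, haf⟩ := (mem_pperp S).1 ha
  obtain ⟨X, hX⟩ : ∃ X, X = κ * κ * Bf S a a := ⟨_, rfl⟩
  have hX0 : X ≠ 0 := hX ▸ mul_ne_zero (mul_ne_zero hκ hκ) haa
  obtain ⟨ζ, hζ⟩ : ∃ ζ : E, tr F E (ζ * ζ * X) ≠ 0 := by
    by_contra hc
    push Not at hc
    refine hX0 (tr_ext (F := F) fun q => ?_)
    have h1 := hc (q + 1)
    rw [show (q + 1) * (q + 1) * X = q * q * X + 1 * 1 * X + (2 : F) • (q * X) by
      rw [Algebra.smul_def, map_ofNat]; ring, map_add, map_add, map_smul, hc q, hc 1, zero_add, zero_add,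
      smul_eq_mul] at h1
    rw [mul_zero, map_zero, (mul_eq_zero.1 h1).resolve_left S.two]
  obtain ⟨T, hT, hTa⟩ := exists_T S hf (a := ζ • a) (by rw [Bf_smul_left, haf, mul_zero])
  refine ⟨κ • v, h, T ⋆ (κ • v), eCentres_conj (le_iso S) hT h, ?_⟩
  have hva : Bf S v a = 0 := by rw [Bf_comm S]; exact hav
  rw [hTa.lin, pol_smul_left S, hTa, hvf, Bf_smul_right, Bf_smul_left, Bf_smul_right, Bf_sub_right,
    Bf_add_right, Bf_smul_right, Bf_smul_right, Bf_smul_right, hv, hvf, hva]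
  have e : κ * (κ * (0 + 1 * (ζ * 0) - (ζ * 0 + ζ * (ζ * Bf S a a) / 2 * 1) * 1)) =
      (-(2 : F)⁻¹) • (ζ * ζ * X) := by
    rw [hX, Algebra.smul_def, map_neg, map_inv₀, map_ofNat]; ring
  rw [Bf_smul_right S ζ a a, e, map_smul, smul_eq_mul]
  exact mul_ne_zero (neg_ne_zero.2 (inv_ne_zero S.two)) hζ

end CfsgLib.Perm.Trans.OrthExt
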